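import Mathlib.LinearAlgebra.RootSystem.Base
import Mathlib.LinearAlgebra.RootSystem.Finite.Nondegenerate
import Groth.Prelude.Def_W4sga3xxiRoot

/-!
Basic kit for root data `P : RootPairing ι ℤ M N`, `[Finite ι]`, non-reduced allowed:
torsion-freeness, sums and differences of roots with the integer valued `P.pairing`, the monoid
`RootD.natSpan P S` as the set of multiset sums, closed sets of roots, and the fact that no non-empty
sum of elements of a closed set without opposite roots vanishes.
-/

set_option autoImplicit false

namespace K219.Basic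

open RootPairing Set

variable {ι M N : Type*} [AddCommGroup M] [AddCommGroup N] (P : RootPairing ι ℤ M N)

include P in
theorem torsionFree_left : IsAddTorsionFree M := by
  have : Module.IsReflexive ℤ M := .of_isPerfPair P.toLinearMap
  exact .of_isTorsionFree ℤ M

include P in
theorem torsionFree_right : IsAddTorsionFree N :=
  torsionFree_left P.flip

theorem pairingIn_eq (i j : ι) : P.pairingIn ℤ i j = P.pairing i j := by
  simpa using P.algebraMap_pairingIn ℤ i j

variable {P}

theorem root_ne_zero (i : ι) : P.root i ≠ 0 := P.ne_zero i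

theorem sub_mem_range [Finite ι] {i j : ι} (h : 0 < P.pairing i j) (h' : i ≠ j) :
    ∃ k, P.root k = P.root i - P.root j :=
  P.root_sub_root_mem_of_pairingIn_pos (by rwa [pairingIn_eq]) h'

theorem add_mem_range [Finite ι] {i j : ι} (h : P.pairing i j < 0)
    (h' : i ≠ P.reflectionPerm j j) :
    ∃ k, P.root k = P.root i + P.root j :=
  P.root_add_root_mem_of_pairingIn_neg (by rwa [pairingIn_eq]) (by simpa using h')

theorem pairing_pos_comm [Finite ι] {i j : ι} : 0 < P.pairing i j ↔ 0 < P.pairing j i := by
  rw [← pairingIn_eq, ← pairingIn_eq]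
  exact P.zero_lt_pairingIn_iff' ℤ

theorem pairing_neg_comm [Finite ι] {i j : ι} : P.pairing i j < 0 ↔ P.pairing j i < 0 := by
  rw [← pairingIn_eq, ← pairingIn_eq]
  exact P.pairingIn_lt_zero_iff ℤ

theorem pairing_zero_comm [Finite ι] {i j : ι} : P.pairing i j = 0 ↔ P.pairing j i = 0 := by
  have h1 := pairing_pos_comm (P := P) (i := i) (j := j)
  have h2 := pairing_neg_comm (P := P) (i := i) (j := j)
  omega

/-- The opposite of the root with index `i` has index `P.reflectionPerm i i`. -/
@[simp] theorem root_neg (i : ι) : P.root (P.reflectionPerm i i) = - P.root i := by simp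

@[simp] theorem neg_neg_idx (i : ι) :
    P.reflectionPerm (P.reflectionPerm i i) (P.reflectionPerm i i) = i := by
  apply P.root.injective; rw [root_neg, root_neg, neg_neg]

theorem eq_of_root_eq {i j : ι} (h : P.root i = P.root j) : i = j := P.root.injective h

theorem eq_neg_of_root_eq {i j : ι} (h : P.root i = - P.root j) : i = P.reflectionPerm j j :=
  eq_of_root_eq (P := P) (by rw [root_neg, h])

theorem reflectionPerm_neg (i j : ι) :
    P.reflectionPerm i (P.reflectionPerm j j) =
      P.reflectionPerm (P.reflectionPerm i j) (P.reflectionPerm i j) := by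
  apply P.root.injective
  rw [root_neg, P.root_reflectionPerm, root_neg, map_neg, P.root_reflectionPerm]

/-! ### `natSpan` as the set of multiset sums -/

/-- The sum of the roots indexed by the multiset `s`. -/
def msum (P : RootPairing ι ℤ M N) (s : Multiset ι) : M := (s.map P.root).sum

@[simp] theorem msum_zero : msum P 0 = 0 := rfl

@[simp] theorem msum_cons (i : ι) (s : Multiset ι) : msum P (i ::ₘ s) = P.root i + msum P s := by
  simp [msum]

@[simp] theorem msum_singleton (i : ι) : msum P {i} = P.root i := by simp [msum]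

@[simp] theorem msum_add (s t : Multiset ι) : msum P (s + t) = msum P s + msum P t := by
  simp [msum]

@[simp] theorem msum_nsmul (n : ℕ) (s : Multiset ι) : msum P (n • s) = n • msum P s := by
  simp [msum, Multiset.map_nsmul, Multiset.sum_nsmul]

@[simp] theorem msum_replicate (n : ℕ) (i : ι) :
    msum P (Multiset.replicate n i) = n • P.root i := by
  simp [msum]

theorem msum_neg (s : Multiset ι) :
    msum P (s.map fun i => P.reflectionPerm i i) = - msum P s := by
  induction s using Multiset.induction_on with
  | empty => simp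
  | cons a s ih => rw [Multiset.map_cons, msum_cons, ih, msum_cons, root_neg]; abel

theorem msum_mem_natSpan {S : Set ι} {s : Multiset ι} (hs : ∀ i ∈ s, i ∈ S) :
    msum P s ∈ RootD.natSpan P S :=
  AddSubmonoid.multiset_sum_mem _ _ (by
    intro x hx
    obtain ⟨i, hi, rfl⟩ := Multiset.mem_map.mp hx
    exact AddSubmonoid.subset_closure ⟨i, hs i hi, rfl⟩)

theorem mem_natSpan_iff {S : Set ι} {x : M} :
    x ∈ RootD.natSpan P S ↔ ∃ s : Multiset ι, (∀ i ∈ s, i ∈ S) ∧ msum P s = x := by
  constructor
  · intro hx
    refine AddSubmonoid.closure_induction ?_ ⟨0, by simp, rfl⟩ ?_ hx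
    · rintro _ ⟨i, hi, rfl⟩
      exact ⟨{i}, by simpa using hi, by simp⟩
    · rintro x y _ _ ⟨s, hs, rfl⟩ ⟨t, ht, rfl⟩
      refine ⟨s + t, fun i hi => ?_, by simp⟩
      rcases Multiset.mem_add.mp hi with h | h
      exacts [hs i h, ht i h]
  · rintro ⟨s, hs, rfl⟩
    exact msum_mem_natSpan hs

theorem root_mem_natSpan {S : Set ι} {i : ι} (hi : i ∈ S) : P.root i ∈ RootD.natSpan P S :=
  AddSubmonoid.subset_closure ⟨i, hi, rfl⟩

theorem natSpan_mono {S T : Set ι} (h : S ⊆ T) : RootD.natSpan P S ≤ RootD.natSpan P T :=
  AddSubmonoid.closure_mono (Set.image_mono h)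

theorem natSpan_le {S : Set ι} {K : AddSubmonoid M} :
    RootD.natSpan P S ≤ K ↔ ∀ i ∈ S, P.root i ∈ K := by
  rw [RootD.natSpan, AddSubmonoid.closure_le]
  simp [Set.subset_def]

theorem natSpan_le_natSpan {S T : Set ι} (h : ∀ i ∈ S, P.root i ∈ RootD.natSpan P T) :
    RootD.natSpan P S ≤ RootD.natSpan P T :=
  natSpan_le.mpr h

theorem mem_span_of_mem_natSpan {S : Set ι} {x : M} (hx : x ∈ RootD.natSpan P S) :
    x ∈ Submodule.span ℤ (P.root '' S) := by
  have : RootD.natSpan P S ≤ (Submodule.span ℤ (P.root '' S)).toAddSubmonoid :=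
    natSpan_le.mpr fun i hi => Submodule.subset_span ⟨i, hi, rfl⟩
  exact this hx

theorem natSpan_neg {S : Set ι} {x : M} :
    x ∈ RootD.natSpan P ((fun i => P.reflectionPerm i i) '' S) ↔ -x ∈ RootD.natSpan P S := by
  have key : ∀ (S : Set ι) (x : M), x ∈ RootD.natSpan P ((fun i => P.reflectionPerm i i) '' S) →
      -x ∈ RootD.natSpan P S := by
    intro S x hx
    refine AddSubmonoid.closure_induction ?_ ?_ ?_ hx
    · rintro _ ⟨_, ⟨i, hi, rfl⟩, rfl⟩
      simpa using root_mem_natSpan hi
    · simp
    · intro x y _ _ hx hy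
      rw [neg_add]
      exact add_mem hx hy
  refine ⟨key S x, fun h => ?_⟩
  have h1 := key ((fun i => P.reflectionPerm i i) '' S) (-x) (by
    rw [← Set.image_comp]
    simpa [Function.comp_def] using h)
  simpa using h1

/-! ### Pairings with sums -/

theorem pairing_msum (s : Multiset ι) (k : ι) :
    P.coroot' k (msum P s) = (s.map fun i => P.pairing i k).sum := by
  induction s using Multiset.induction_on with
  | empty => simp
  | cons a s ih => rw [msum_cons, map_add, ih]; simp

theorem exists_pairing_pos_of_msum {s : Multiset ι} {k : ι} (h : 0 < P.coroot' k (msum P s)) :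
    ∃ i ∈ s, 0 < P.pairing i k := by
  by_contra! hc
  rw [pairing_msum] at h
  have : ∀ t : Multiset ι, (∀ i ∈ t, P.pairing i k ≤ 0) →
      (t.map fun i => P.pairing i k).sum ≤ 0 := by
    intro t
    induction t using Multiset.induction_on with
    | empty => simp
    | cons a t ih =>
      intro h
      have h1 := h a (by simp)
      have h2 := ih fun i hi => h i (by simp [hi])
      rw [Multiset.map_cons, Multiset.sum_cons]
      omega
  have := this s hc
  omega

theorem exists_pairing_neg_of_msum {s : Multiset ι} {k : ι} (h : P.coroot' k (msum P s) < 0) :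
    ∃ i ∈ s, P.pairing i k < 0 := by
  by_contra! hc
  rw [pairing_msum] at h
  have : 0 ≤ (s.map fun i => P.pairing i k).sum :=
    Multiset.sum_nonneg (s := s.map fun i => P.pairing i k) (by
      intro x hx
      obtain ⟨i, hi, rfl⟩ := Multiset.mem_map.mp hx
      exact hc i hi)
  omega

variable [Finite ι]

/-- If a root is a sum of roots `s` (at least two of them, or one different from it), then some
element of `s` can be subtracted. -/
theorem exists_sub_of_msum_eq_root {s : Multiset ι} {k : ι} (h : msum P s = P.root k)
    (hne : k ∉ s) :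
    ∃ i ∈ s, 0 < P.pairing i k ∧ ∃ l, P.root l = P.root k - P.root i := by
  obtain ⟨i, hi, hpos⟩ := exists_pairing_pos_of_msum (P := P) (s := s) (k := k) (by
    rw [h]; simp)
  refine ⟨i, hi, hpos, ?_⟩
  exact sub_mem_range (pairing_pos_comm.mp hpos) (by rintro rfl; exact hne hi)

/-- A closed set of roots contains every root lying in the monoid it generates. -/
theorem mem_of_closed {S : Set ι} (hS : RootD.IsClosedSub P S) {k : ι}
    (hk : P.root k ∈ RootD.natSpan P S) : k ∈ S := by
  obtain ⟨s, hs, hsum⟩ := mem_natSpan_iff.mp hk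
  clear hk
  classical
  induction hn : Multiset.card s using Nat.strong_induction_on generalizing s k with
  | _ n ih =>
    by_cases hks : k ∈ s
    · exact hs k hks
    obtain ⟨i, hi, -, l, hl⟩ := exists_sub_of_msum_eq_root hsum hks
    have hl' : msum P (s.erase i) = P.root l := by
      have := Multiset.cons_erase hi
      rw [← this, msum_cons] at hsum
      rw [hl, ← hsum]; abel
    have hlS : l ∈ S := ih (Multiset.card (s.erase i)) (by
      rw [← hn]; exact Multiset.card_erase_lt_of_mem hi) (s.erase i)
      (fun j hj => hs j (Multiset.mem_of_mem_erase hj)) hl' rfl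
    exact hS hlS (hs i hi) (by rw [hl]; abel)

theorem closed_iff {S : Set ι} :
    RootD.IsClosedSub P S ↔ ∀ k : ι, P.root k ∈ RootD.natSpan P S → k ∈ S := by
  refine ⟨fun h k hk => mem_of_closed h hk, fun h i j k hi hj hk => h k ?_⟩
  rw [hk]
  exact add_mem (root_mem_natSpan hi) (root_mem_natSpan hj)

/-- No non-empty sum of elements of a closed set without opposite roots vanishes. -/
theorem msum_ne_zero {S : Set ι} (hS : RootD.IsClosedSub P S)
    (h1 : ∀ i ∈ S, P.reflectionPerm i i ∉ S) {s : Multiset ι} (hs : ∀ i ∈ s, i ∈ S)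
    (hne : s ≠ 0) : msum P s ≠ 0 := by
  classical
  induction hn : Multiset.card s using Nat.strong_induction_on generalizing s with
  | _ n ih =>
    intro h0
    obtain ⟨i, hi⟩ := Multiset.exists_mem_of_ne_zero hne
    obtain ⟨t, rfl⟩ := Multiset.exists_cons_of_mem hi
    rw [msum_cons] at h0
    have ht : msum P t = - P.root i := by rw [← add_eq_zero_iff_neg_eq.mp h0]
    obtain ⟨j, hj, hneg⟩ := exists_pairing_neg_of_msum (P := P) (s := t) (k := i) (by
      rw [ht, map_neg]; simp)
    have hij : j ≠ P.reflectionPerm i i := by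
      rintro rfl
      exact h1 i (hs i hi) (hs _ (Multiset.mem_cons_of_mem hj))
    obtain ⟨l, hl⟩ := add_mem_range hneg hij
    have hjS := hs j (Multiset.mem_cons_of_mem hj)
    have hlS : l ∈ S := hS hjS (hs i hi) hl
    refine ih (Multiset.card (l ::ₘ t.erase j)) ?_ (s := l ::ₘ t.erase j) ?_ ?_ rfl ?_
    · rw [← hn, Multiset.card_cons, Multiset.card_cons]
      have := Multiset.card_erase_lt_of_mem hj
      omega
    · intro a ha
      rcases Multiset.mem_cons.mp ha with rfl | ha
      · exact hlS
      · exact hs a (Multiset.mem_cons_of_mem (Multiset.mem_of_mem_erase ha))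
    · exact Multiset.cons_ne_zero
    · rw [← Multiset.cons_erase hj, msum_cons] at ht
      rw [msum_cons, hl]
      have : msum P (t.erase j) = - P.root i - P.root j := by rw [← ht]; abel
      rw [this]; abel

/-! ### The canonical form is positive definite on the root lattice -/

omit [Finite ι] in
theorem eq_zero_of_rootForm {x : M} [Fintype ι] (hx : x ∈ Submodule.span ℤ (Set.range P.root))
    (h : P.RootForm x x ≤ 0) : x = 0 := by
  by_contra hne
  have := P.rootForm_pos_of_ne_zero (x := x) hx hne
  omega

/-- An element of the root lattice killed by all coroots vanishes. -/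
theorem eq_zero_of_coroot' {x : M} (hx : x ∈ Submodule.span ℤ (Set.range P.root))
    (h : ∀ i, P.coroot' i x = 0) : x = 0 := by
  have : Fintype ι := Fintype.ofFinite ι
  refine eq_zero_of_rootForm hx ?_
  rw [P.rootForm_apply_apply]
  simp only [h, mul_zero, Finset.sum_const_zero, le_refl]

/-- The rational version: if a positive multiple of `x` lies in the root lattice and `x` is killed
by all coroots then `x = 0`. -/
theorem eq_zero_of_coroot'_of_nsmul {x : M} {n : ℕ} (hn : 0 < n)
    (hx : n • x ∈ Submodule.span ℤ (Set.range P.root))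
    (h : ∀ i, P.coroot' i x = 0) : x = 0 := by
  have := torsionFree_left P
  have h0 : n • x = 0 := eq_zero_of_coroot' hx (fun i => by rw [map_nsmul, h i, smul_zero])
  exact (smul_eq_zero_iff_right hn.ne').mp h0

end K219.Basic
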