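import Groth.Agent.RootD.K219.Basic

/-!
S5451: a root which is a sum of roots of a family can be reached from `0` by successively adding
roots of the family, every partial sum being a root.
-/

set_option autoImplicit false

namespace K219.Chain

open RootPairing Set K219.Basic

variable {ι M N κ : Type*} [AddCommGroup M] [AddCommGroup N] {P : RootPairing ι ℤ M N} [Finite ι]

theorem exists_chain (a : κ → ι) (s : Multiset κ) (k : ι)
    (hk : P.root k = (s.map fun q => P.root (a q)).sum) :
    ∃ (l : ℕ) (b : Fin l → κ), 0 < l ∧
      (∀ p : Fin l, ∃ j : ι, P.root j = ∑ q ∈ Finset.Iic p, P.root (a (b q))) ∧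
      P.root k = ∑ q, P.root (a (b q)) := by
  classical
  induction hn : Multiset.card s using Nat.strong_induction_on generalizing s k with
  | _ n ih =>
    have hk' : msum P (s.map a) = P.root k := by
      rw [hk, msum, Multiset.map_map]; rfl
    by_cases hks : k ∈ s.map a
    · obtain ⟨q, hq, rfl⟩ := Multiset.mem_map.mp hks
      exact ⟨1, ![q], one_pos, fun p => ⟨a q, by
        have : Finset.Iic p = {p} := by
          ext x
          have : x = p := Subsingleton.elim _ _
          simp [this]
        rw [this]; simp⟩, by simp⟩
    obtain ⟨i, hi, -, l, hl⟩ := exists_sub_of_msum_eq_root hk' hks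
    obtain ⟨q, hq, rfl⟩ := Multiset.mem_map.mp hi
    have hl' : P.root l = ((s.erase q).map fun q => P.root (a q)).sum := by
      have := Multiset.cons_erase hq
      rw [← this, Multiset.map_cons, Multiset.sum_cons] at hk
      rw [hl, hk]; abel
    obtain ⟨m, b, hm, h1, h2⟩ := ih _ (by rw [← hn]; exact Multiset.card_erase_lt_of_mem hq)
      (s.erase q) l hl' rfl
    have hk2 : P.root k = ∑ p, P.root (a (Fin.snoc (α := fun _ => κ) b q p)) := by
      rw [Fin.sum_univ_castSucc]
      simp only [Fin.snoc_castSucc, Fin.snoc_last]
      rw [← h2, hl]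
      abel
    refine ⟨m + 1, Fin.snoc b q, Nat.succ_pos _, fun p => ?_, hk2⟩
    by_cases hp : p < m
    · have : p = (⟨p, hp⟩ : Fin m).castSucc := rfl
      rw [this, Fin.sum_Iic_castSucc]
      simp only [Fin.snoc_castSucc]
      exact h1 _
    · have hp' : (p : ℕ) = m := by have := p.2; omega
      have hIic : Finset.Iic p = Finset.univ := by
        ext x
        simp only [Finset.mem_Iic, Finset.mem_univ, iff_true, Fin.le_def]
        omega
      rw [hIic]
      exact ⟨k, hk2⟩

end K219.Chain
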