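import Groth.Agent.RootD.K219.Pos
import Groth.Agent.RootD.K221.Prop

/-!
Recognising simple systems: S5446 (indivisible, linearly independent, rational cone) and S5447
(unique same-sign representation).
-/

set_option autoImplicit false

namespace K219.Cone

open RootPairing Set K219.Basic K219.Pos RootD

variable {ι M N : Type*} [AddCommGroup M] [AddCommGroup N] {P : RootPairing ι ℤ M N}

/-- The integer coefficient vector of a multiset. -/
noncomputable def fs (s : Multiset ι) : ι →₀ ℤ := (s.map fun i => Finsupp.single i (1 : ℤ)).sum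

@[simp] theorem fs_zero : fs (0 : Multiset ι) = 0 := rfl

@[simp] theorem fs_cons (i : ι) (s : Multiset ι) : fs (i ::ₘ s) = Finsupp.single i 1 + fs s := by
  simp [fs]

@[simp] theorem fs_add (s t : Multiset ι) : fs (s + t) = fs s + fs t := by simp [fs]

theorem fs_apply [DecidableEq ι] (s : Multiset ι) (i : ι) : fs s i = s.count i := by
  induction s using Multiset.induction_on with
  | empty => simp
  | cons a s ih =>
    rw [fs_cons, Finsupp.add_apply, ih, Multiset.count_cons, Finsupp.single_apply]
    by_cases h : a = i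
    · simp [h]; ring
    · rw [if_neg h, if_neg (Ne.symm h)]; simp

theorem linearCombination_fs (s : Multiset ι) :
    Finsupp.linearCombination ℤ P.root (fs s) = msum P s := by
  induction s using Multiset.induction_on with
  | empty => simp
  | cons a s ih => rw [fs_cons, map_add, ih]; simp

theorem fs_nonneg (s : Multiset ι) (i : ι) : 0 ≤ fs s i := by
  classical
  rw [fs_apply]
  exact Int.natCast_nonneg _

theorem fs_support {s : Multiset ι} {S : Set ι} (hs : ∀ i ∈ s, i ∈ S) : ↑(fs s).support ⊆ S := by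
  classical
  intro i hi
  refine hs i ?_
  have : fs s i ≠ 0 := by simpa using hi
  rw [fs_apply] at this
  exact Multiset.count_pos.mp (by omega)

theorem fs_injective : Function.Injective (fs : Multiset ι → ι →₀ ℤ) := by
  classical
  intro s t h
  ext i
  have := DFunLike.congr_fun h i
  rw [fs_apply, fs_apply] at this
  exact_mod_cast this

/-- For linearly independent roots the multiset is determined by its sum. -/
theorem msum_inj {Δ : Set ι} (hli : LinearIndepOn ℤ P.root Δ) {s t : Multiset ι}
    (hs : ∀ i ∈ s, i ∈ Δ) (ht : ∀ i ∈ t, i ∈ Δ) (h : msum P s = msum P t) : s = t := by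
  apply fs_injective
  refine linearIndepOn_iffₛ.mp hli _ ?_ _ ?_ ?_
  · exact (Finsupp.mem_supported ℤ _).mpr (fs_support hs)
  · exact (Finsupp.mem_supported ℤ _).mpr (fs_support ht)
  · rw [linearCombination_fs, linearCombination_fs, h]

theorem msum_ne_zero_of_li {Δ : Set ι} (hli : LinearIndepOn ℤ P.root Δ) {s : Multiset ι}
    (hs : ∀ i ∈ s, i ∈ Δ) (hne : s ≠ 0) : msum P s ≠ 0 := fun h =>
  hne (msum_inj hli hs (t := 0) (by simp) (by simpa using h))

/-- The roots in the rational cone of `Δ`. -/
def cone (P : RootPairing ι ℤ M N) (Δ : Set ι) : Set ι :=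
  {k | ∃ n : ℕ, 0 < n ∧ n • P.root k ∈ natSpan P Δ}

theorem exists_nsmul_mem_of_mem_natSpan_cone {Δ : Set ι} {x : M}
    (hx : x ∈ natSpan P (cone P Δ)) : ∃ n : ℕ, 0 < n ∧ n • x ∈ natSpan P Δ := by
  refine AddSubmonoid.closure_induction ?_ ?_ ?_ hx
  · rintro _ ⟨k, hk, rfl⟩
    exact hk
  · exact ⟨1, one_pos, by simp [zero_mem]⟩
  · rintro x y _ _ ⟨n, hn, hx⟩ ⟨m, hm, hy⟩
    refine ⟨m * n, Nat.mul_pos hm hn, ?_⟩
    rw [smul_add, mul_smul, mul_comm m n, mul_smul]
    exact add_mem (nsmul_mem hx m) (nsmul_mem hy n)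

variable [Finite ι]

omit [Finite ι] in
/-- The rational cone generated by linearly independent roots defines a positive system if it
contains every root up to sign. -/
theorem isPosSys_cone {Δ : Set ι} (hli : LinearIndepOn ℤ P.root Δ)
    (hcone : ∀ k : ι, k ∈ cone P Δ ∨ ng P k ∈ cone P Δ) : IsPosSys P (cone P Δ) where
  disjoint := by
    rintro k ⟨n, hn, hk⟩ ⟨m, hm, hk'⟩
    rw [root_neg] at hk'
    obtain ⟨s, hs, hsum⟩ := mem_natSpan_iff.mp hk
    obtain ⟨t, ht, htsum⟩ := mem_natSpan_iff.mp hk'
    have h1 : msum P (m • s + n • t) = 0 := by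
      rw [msum_add, msum_nsmul, msum_nsmul, hsum, htsum]
      simp only [smul_neg, smul_smul, mul_comm m n]
      abel
    have h2 : m • s + n • t = 0 := by
      by_contra hne
      refine msum_ne_zero_of_li hli ?_ hne h1
      intro i hi
      rcases Multiset.mem_add.mp hi with h | h
      exacts [hs i (Multiset.mem_of_mem_nsmul h), ht i (Multiset.mem_of_mem_nsmul h)]
    have h3 : s = 0 := by
      have := congrArg Multiset.card h2
      simp only [Multiset.card_add, Multiset.card_nsmul, Multiset.card_zero] at this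
      have h4 : m * s.card = 0 := by
        have := Nat.eq_zero_of_add_eq_zero_right this
        simpa using this
      exact Multiset.card_eq_zero.mp ((Nat.mul_eq_zero.mp h4).resolve_left hm.ne')
    rw [h3, msum_zero] at hsum
    have := torsionFree_left P
    exact P.ne_zero k ((smul_eq_zero_iff_right hn.ne').mp hsum.symm)
  cover := hcone
  sat k n hn hk := by
    obtain ⟨m, hm, h⟩ := exists_nsmul_mem_of_mem_natSpan_cone hk
    exact ⟨m * n, Nat.mul_pos hm hn, by rwa [mul_smul]⟩

/-- S5446: indivisible linearly independent roots whose rational cone contains every root up to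
sign form a simple system. -/
theorem isSimpleSys_of_cone {Δ : Set ι} (hind : ∀ i ∈ Δ, IsIndiv P i)
    (hli : LinearIndepOn ℤ P.root Δ)
    (hcone : ∀ k : ι, k ∈ cone P Δ ∨ ng P k ∈ cone P Δ) : IsSimpleSys P Δ := by
  have hS := isPosSys_cone hli hcone
  have hΔ₀ := isSimpleSys_indec hS
  have htf := torsionFree_left P
  have hsub : Δ ⊆ indec P (cone P Δ) := by
    intro α hα
    refine ⟨⟨1, one_pos, by simpa using root_mem_natSpan hα⟩, ?_⟩
    rintro ⟨β, γ, ⟨n, hn, hβ⟩, ⟨m, hm, hγ⟩, hsum⟩
    obtain ⟨s, hs, hssum⟩ := mem_natSpan_iff.mp hβ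
    obtain ⟨t, ht, htsum⟩ := mem_natSpan_iff.mp hγ
    have hrep : Multiset.replicate (n * m) α = m • s + n • t := by
      refine msum_inj hli ?_ ?_ ?_
      · intro i hi
        rwa [Multiset.eq_of_mem_replicate hi]
      · intro i hi
        rcases Multiset.mem_add.mp hi with h | h
        exacts [hs i (Multiset.mem_of_mem_nsmul h), ht i (Multiset.mem_of_mem_nsmul h)]
      · rw [msum_replicate, msum_add, msum_nsmul, msum_nsmul, hssum, htsum, hsum, smul_add,
          smul_smul, smul_smul, mul_comm m n]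
    -- both `β` and `γ` are positive integer multiples of `α`
    have key : ∀ (δ : ι) (n : ℕ) (s : Multiset ι), 0 < n → msum P s = n • P.root δ →
        (∀ i ∈ s, i = α) → ∃ c : ℤ, 0 < c ∧ P.root δ = c • P.root α := by
      intro δ n s hn hsum hs
      have hs' : s = Multiset.replicate s.card α := Multiset.eq_replicate_card.mpr hs
      rw [hs', msum_replicate] at hsum
      have h1 : (n : ℤ) • P.root δ = (s.card : ℤ) • P.root α := by
        rw [natCast_zsmul, natCast_zsmul, hsum]
      obtain ⟨c, hc⟩ := K221.Prop.dvd_of_indiv P (hind α hα) (by exact_mod_cast hn.ne') h1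
      have h2 : P.root δ = c • P.root α := by
        rw [hc, mul_smul] at h1
        exact smul_right_injective M (r := (n : ℤ)) (by exact_mod_cast hn.ne') h1
      refine ⟨c, ?_, h2⟩
      have hcn : (0 : ℤ) ≤ n * c := by rw [← hc]; exact Int.natCast_nonneg _
      have hc0 : 0 ≤ c := nonneg_of_mul_nonneg_right hcn (by exact_mod_cast hn)
      rcases hc0.lt_or_eq with h | h
      · exact h
      · exfalso
        rw [← h, zero_smul] at h2
        exact P.ne_zero δ h2
    have hall : ∀ i ∈ m • s + n • t, i = α := by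
      rw [← hrep]
      exact fun i hi => Multiset.eq_of_mem_replicate hi
    obtain ⟨c, hc, hβc⟩ := key β n s hn hssum (fun i hi => hall i (Multiset.mem_add.mpr
      (Or.inl ((Multiset.mem_nsmul_of_ne_zero hm.ne').mpr hi))))
    obtain ⟨d, hd, hγd⟩ := key γ m t hm htsum (fun i hi => hall i (Multiset.mem_add.mpr
      (Or.inr ((Multiset.mem_nsmul_of_ne_zero hn.ne').mpr hi))))
    rw [hβc, hγd, ← add_smul] at hsum
    have h1 : (1 : ℤ) • P.root α = (c + d) • P.root α := by rw [← hsum, one_smul]
    have h2 := smul_left_injective ℤ (P.ne_zero α) h1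
    omega
  have heq : Δ = indec P (cone P Δ) := by
    refine Set.Subset.antisymm hsub fun γ hγ => ?_
    by_contra hγΔ
    obtain ⟨n, hn, hγ'⟩ := hγ.1
    have : ∀ x (hx : x ∈ natSpan P Δ) (hx' : x ∈ Submodule.span ℤ (Set.range P.root)),
        co hΔ₀ γ ⟨x, hx'⟩ = 0 := by
      intro x hx
      refine AddSubmonoid.closure_induction (motive := fun x _ => ∀ hx' : x ∈ Submodule.span ℤ
        (Set.range P.root), co hΔ₀ γ ⟨x, hx'⟩ = 0) ?_ ?_ ?_ hx
      · rintro _ ⟨i, hi, rfl⟩ hx'
        exact cf_ne hΔ₀ (hsub hi) (by rintro rfl; exact hγΔ hi)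
      · intro hx'
        have : (⟨0, hx'⟩ : Submodule.span ℤ (Set.range P.root)) = 0 := rfl
        rw [this, map_zero]
      · intro x y hx hy ihx ihy hxy
        have hx' : x ∈ Submodule.span ℤ (Set.range P.root) :=
          Submodule.span_mono (Set.image_subset_range _ _) (mem_span_of_mem_natSpan hx)
        have hy' : y ∈ Submodule.span ℤ (Set.range P.root) :=
          Submodule.span_mono (Set.image_subset_range _ _) (mem_span_of_mem_natSpan hy)
        have : (⟨x + y, hxy⟩ : Submodule.span ℤ (Set.range P.root)) = ⟨x, hx'⟩ + ⟨y, hy'⟩ := rfl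
        rw [this, map_add, ihx hx', ihy hy', add_zero]
    have h1 := this _ hγ' (by
      rw [← natCast_zsmul]
      exact Submodule.smul_mem _ _ (Submodule.subset_span ⟨γ, rfl⟩))
    have h2 : (⟨n • P.root γ, by
      rw [← natCast_zsmul]
      exact Submodule.smul_mem _ _ (Submodule.subset_span ⟨γ, rfl⟩)⟩ :
        Submodule.span ℤ (Set.range P.root)) =
        (n : ℤ) • ⟨P.root γ, Submodule.subset_span ⟨γ, rfl⟩⟩ := Subtype.ext (by simp)
    rw [h2, map_smul] at h1
    have h3 := cf_self hΔ₀ hγ
    rw [cf] at h3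
    rw [h3] at h1
    simp at h1
    omega
  rw [heq]
  exact hΔ₀

/-- S5447: unique same-sign representation implies simple system. -/
theorem isSimpleSys_of_unique {Δ : Set ι}
    (h : ∀ k : ι, ∃! c : ι →₀ ℤ, (↑c.support ⊆ Δ ∧ ((∀ j, 0 ≤ c j) ∨ (∀ j, c j ≤ 0)) ∧
      Finsupp.linearCombination ℤ P.root c = P.root k)) : IsSimpleSys P Δ := by
  classical
  have hsingle : ∀ k ∈ Δ, (↑(Finsupp.single k (1 : ℤ)).support ⊆ Δ ∧
      ((∀ j, 0 ≤ Finsupp.single k (1 : ℤ) j) ∨ (∀ j, Finsupp.single k (1 : ℤ) j ≤ 0)) ∧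
      Finsupp.linearCombination ℤ P.root (Finsupp.single k (1 : ℤ)) = P.root k) := by
    intro k hk
    refine ⟨?_, Or.inl fun j => ?_, by simp⟩
    · intro i hi
      have hi' : i = k := by
        by_contra hne
        simp at hi
        exact hne hi
      rwa [hi']
    · rw [Finsupp.single_apply]; split_ifs <;> omega
  have hpair : ∀ i ∈ Δ, ∀ j ∈ Δ, i ≠ j → P.pairing i j ≤ 0 := by
    intro i hi j hj hij
    by_contra! hpos
    obtain ⟨l, hl⟩ := sub_mem_range hpos hij
    obtain ⟨c, ⟨hc1, hc2, hc3⟩, -⟩ := h l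
    have key : ∀ (i j : ι) (c : ι →₀ ℤ), i ∈ Δ → j ∈ Δ → i ≠ j → ↑c.support ⊆ Δ →
        (∀ a, 0 ≤ c a) →
        Finsupp.linearCombination ℤ P.root c = P.root i - P.root j → False := by
      intro i j c hi hj hij hc1 hc2 hc3
      have h1 := (h i).unique (hsingle i hi) (y₂ := c + Finsupp.single j 1) ⟨?_, ?_, ?_⟩
      · have h2 := DFunLike.congr_fun h1 j
        simp only [Finsupp.add_apply, Finsupp.single_eq_same,
          Finsupp.single_eq_of_ne (Ne.symm hij)] at h2
        have := hc2 j
        omega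
      · intro a ha
        have := Finsupp.support_add ha
        rcases Finset.mem_union.mp this with h | h
        · exact hc1 h
        · exact (hsingle j hj).1 h
      · left
        intro a
        rw [Finsupp.add_apply]
        have h2 := hc2 a
        have : 0 ≤ Finsupp.single j (1 : ℤ) a := by rw [Finsupp.single_apply]; split_ifs <;> omega
        omega
      · rw [map_add, hc3]; simp
    rcases hc2 with hc2 | hc2
    · exact key i j c hi hj hij hc1 hc2 (by rw [hc3, hl])
    · exact key j i (-c) hj hi (Ne.symm hij) (by simpa using hc1)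
        (fun a => by simpa using hc2 a) (by rw [map_neg, hc3, hl]; abel)
  have hpt : ∀ s : Multiset ι, (∀ i ∈ s, i ∈ Δ) → s ≠ 0 → msum P s ≠ 0 := by
    intro s hs hne h0
    obtain ⟨k, hk⟩ := Multiset.exists_mem_of_ne_zero hne
    have h1 := (h k).unique (hsingle k (hs k hk)) (y₂ := fs (k ::ₘ s)) ⟨?_, ?_, ?_⟩
    · rw [fs_cons] at h1
      have h2 : fs s = 0 := by simpa using h1
      exact hne (fs_injective (by rw [h2, fs_zero]))
    · exact fs_support (by
        intro i hi
        rcases Multiset.mem_cons.mp hi with rfl | hi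
        exacts [hs _ hk, hs _ hi])
    · exact Or.inl fun a => fs_nonneg _ _
    · rw [linearCombination_fs, msum_cons, h0, add_zero]
  have hnat : ∀ (c : ι →₀ ℤ), ↑c.support ⊆ Δ → (∀ a, 0 ≤ c a) →
      Finsupp.linearCombination ℤ P.root c ∈ natSpan P Δ := by
    intro c hc hc0
    rw [Finsupp.linearCombination_apply]
    refine AddSubmonoid.sum_mem _ fun i hi => ?_
    obtain ⟨n, hn⟩ := Int.eq_ofNat_of_zero_le (hc0 i)
    simp only [hn, natCast_zsmul]
    exact nsmul_mem (root_mem_natSpan (hc hi)) n
  refine ⟨linInd_of_obtuse hpair hpt, fun k => ?_⟩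
  obtain ⟨c, ⟨hc1, hc2, hc3⟩, -⟩ := h k
  rcases hc2 with hc2 | hc2
  · left
    rw [← hc3]
    exact hnat c hc1 hc2
  · right
    rw [← hc3, ← map_neg]
    exact hnat (-c) (by simpa using hc1) (fun a => by simpa using hc2 a)

end K219.Cone
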