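import Groth.Agent.RootD.K219.Basic

/-!
Systems of positive roots and systems of simple roots (`RootD.IsPosSys`, `RootD.IsSimpleSys`) of a
root datum `P : RootPairing ι ℤ M N` with finitely many roots, non-reduced allowed:
* positive systems are the closed sets with (P1), (P2);
* the indecomposable elements `indec P S` of a positive system form its unique simple system;
* `posOf P Δ` is a positive system;
* integer coordinates `cf hΔ k i` of the root `k` along the simple system `Δ`;
* existence of positive systems.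
-/

set_option autoImplicit false

namespace K219.Pos

open RootPairing Set K219.Basic RootD

variable {ι M N : Type*} [AddCommGroup M] [AddCommGroup N] {P : RootPairing ι ℤ M N}

/-- The index of the opposite root. -/
abbrev ng (P : RootPairing ι ℤ M N) (i : ι) : ι := P.reflectionPerm i i

theorem isPosSys_disj {S : Set ι} (hS : IsPosSys P S) (i : ι) (hi : i ∈ S) : ng P i ∉ S :=
  hS.disjoint hi

theorem neg_mem_iff {S : Set ι} (hS : IsPosSys P S) {i : ι} : ng P i ∈ S ↔ i ∉ S := by
  refine ⟨fun h hi => hS.disjoint hi h, fun h => (hS.cover i).resolve_left h⟩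

section
variable [Finite ι]

theorem isClosedSub_of_isPosSys {S : Set ι} (hS : IsPosSys P S) : IsClosedSub P S :=
  closed_iff.mpr fun k hk => hS.sat 1 one_pos (by simpa using hk)

theorem isPosSys_of_closed {S : Set ι} (h1 : ∀ i ∈ S, ng P i ∉ S)
    (h2 : ∀ i, i ∈ S ∨ ng P i ∈ S) (h3 : IsClosedSub P S) : IsPosSys P S where
  disjoint i hi := h1 i hi
  cover := h2
  sat k n hn hk := by
    by_contra hkS
    have hk' := (h2 k).resolve_left hkS
    obtain ⟨s, hs, hsum⟩ := mem_natSpan_iff.mp hk
    refine msum_ne_zero h3 h1 (s := s + Multiset.replicate n (ng P k)) ?_ ?_ ?_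
    · intro i hi
      rcases Multiset.mem_add.mp hi with h | h
      · exact hs i h
      · rw [Multiset.eq_of_mem_replicate h]; exact hk'
    · intro h
      have := congrArg Multiset.card h
      simp at this
      omega
    · rw [msum_add, hsum, msum_replicate]
      simp

theorem isPosSys_iff {S : Set ι} : IsPosSys P S ↔
    ((∀ i ∈ S, ng P i ∉ S) ∧ (∀ i, i ∈ S ∨ ng P i ∈ S) ∧ IsClosedSub P S) :=
  ⟨fun h => ⟨isPosSys_disj h, h.cover, isClosedSub_of_isPosSys h⟩,
    fun h => isPosSys_of_closed h.1 h.2.1 h.2.2⟩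

theorem posSys_msum_ne_zero {S : Set ι} (hS : IsPosSys P S) {s : Multiset ι}
    (hs : ∀ i ∈ s, i ∈ S) (hne : s ≠ 0) : msum P s ≠ 0 :=
  msum_ne_zero (isClosedSub_of_isPosSys hS) (isPosSys_disj hS) hs hne

/-! ### Indecomposable elements -/

/-- The elements of `S` which are not sums of two elements of `S`. -/
def indec (P : RootPairing ι ℤ M N) (S : Set ι) : Set ι :=
  {i | i ∈ S ∧ ¬ ∃ j k, j ∈ S ∧ k ∈ S ∧ P.root i = P.root j + P.root k}

omit [Finite ι] in
theorem indec_subset (S : Set ι) : indec P S ⊆ S := fun _ h => h.1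

/-- Well-founded induction on a pointed closed set: if `p` holds for indecomposable elements and
is stable under sums then it holds on `S`. -/
theorem indec_induction {S : Set ι} (hS : IsClosedSub P S) (h1 : ∀ i ∈ S, ng P i ∉ S)
    {p : ι → Prop} (h0 : ∀ i ∈ indec P S, p i)
    (hadd : ∀ i j k, j ∈ S → k ∈ S → P.root i = P.root j + P.root k → p j → p k → p i)
    {i : ι} (hi : i ∈ S) : p i := by
  let r : ι → ι → Prop := fun j i => ∃ t : Multiset ι, t ≠ 0 ∧ (∀ a ∈ t, a ∈ S) ∧
    P.root i = P.root j + msum P t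
  have hirr : Std.Irrefl r := ⟨fun a ⟨t, ht, htS, h⟩ =>
    msum_ne_zero hS h1 htS ht (by simpa using h)⟩
  have htr : IsTrans ι r := ⟨by
    rintro a b c ⟨t, ht, htS, h⟩ ⟨u, hu, huS, h'⟩
    refine ⟨t + u, ?_, ?_, ?_⟩
    · intro h0
      exact ht (by
        have := congrArg Multiset.card h0
        simp at this
        exact this.1)
    · intro x hx
      rcases Multiset.mem_add.mp hx with h | h
      exacts [htS x h, huS x h]
    · rw [h', h, msum_add]; abel⟩
  have hwf : WellFounded r := Finite.wellFounded_of_trans_of_irrefl r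
  induction i using hwf.induction with
  | _ i ih =>
    by_cases hd : i ∈ indec P S
    · exact h0 i hd
    · have : ∃ j k, j ∈ S ∧ k ∈ S ∧ P.root i = P.root j + P.root k := by
        by_contra hc
        exact hd ⟨hi, hc⟩
      obtain ⟨j, k, hj, hk, h⟩ := this
      refine hadd i j k hj hk h (ih j ⟨{k}, by simp, by simpa using hk, by simpa using h⟩ hj)
        (ih k ⟨{j}, by simp, by simpa using hj, by rw [h]; simp [add_comm]⟩ hk)

theorem mem_natSpan_indec {S : Set ι} (hS : IsClosedSub P S) (h1 : ∀ i ∈ S, ng P i ∉ S)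
    {i : ι} (hi : i ∈ S) : P.root i ∈ natSpan P (indec P S) :=
  indec_induction hS h1 (p := fun i => P.root i ∈ natSpan P (indec P S))
    (fun _ h => root_mem_natSpan h)
    (fun i j k _ _ h hj hk => by rw [h]; exact add_mem hj hk) hi

/-! ### Linear independence of obtuse families -/

omit [Finite ι] in
theorem rootForm_le_zero [Fintype ι] {i j : ι} (h : P.pairing i j ≤ 0) :
    P.RootForm (P.root i) (P.root j) ≤ 0 := by
  have h1 := (P.posRootForm ℤ).toInvariantForm.two_mul_apply_root_root i j
  have h2 : 0 < P.RootForm (P.root j) (P.root j) :=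
    P.rootForm_pos_of_ne_zero (Submodule.subset_span ⟨j, rfl⟩) (P.ne_zero j)
  change 2 * P.RootForm (P.root i) (P.root j) = P.pairing i j * P.RootForm (P.root j) (P.root j)
    at h1
  nlinarith

/-- Roots forming pairwise obtuse angles, no non-empty sum of which vanishes, are linearly
independent. -/
theorem linInd_of_obtuse {Δ : Set ι} (h1 : ∀ i ∈ Δ, ∀ j ∈ Δ, i ≠ j → P.pairing i j ≤ 0)
    (h2 : ∀ s : Multiset ι, (∀ i ∈ s, i ∈ Δ) → s ≠ 0 → msum P s ≠ 0) :
    LinearIndepOn ℤ P.root Δ := by
  classical
  have : Fintype ι := Fintype.ofFinite ι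
  rw [linearIndepOn_iff]
  intro l hl h0
  have hlΔ : ∀ i, l i ≠ 0 → i ∈ Δ := fun i hi =>
    (Finsupp.mem_supported ℤ l).mp hl (by simpa using hi)
  have h0' : ∑ i, l i • P.root i = 0 := by
    rw [← h0, Finsupp.linearCombination_apply, Finsupp.sum_fintype _ _ (by simp)]
  -- positive part
  let x : M := ∑ i, (l i).toNat • P.root i
  let y : M := ∑ i, (-l i).toNat • P.root i
  have hxy : x - y = 0 := by
    rw [← h0', ← Finset.sum_sub_distrib]
    refine Finset.sum_congr rfl fun i _ => ?_
    rw [← natCast_zsmul, ← natCast_zsmul, ← sub_smul]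
    congr 1
    omega
  have hxy' : x = y := sub_eq_zero.mp hxy
  have hxspan : x ∈ Submodule.span ℤ (Set.range P.root) :=
    Submodule.sum_mem _ fun i _ => by
      rw [← natCast_zsmul]
      exact Submodule.smul_mem _ _ (Submodule.subset_span ⟨i, rfl⟩)
  have hx0 : x = 0 := by
    refine eq_zero_of_rootForm hxspan ?_
    have : P.RootForm x x = P.RootForm x y := by rw [← hxy']
    rw [this]
    simp only [x, y, map_sum, LinearMap.sum_apply, map_nsmul, LinearMap.smul_apply,
      Finset.smul_sum]
    refine Finset.sum_nonpos fun i _ => Finset.sum_nonpos fun j _ => ?_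
    rw [nsmul_eq_mul, nsmul_eq_mul]
    by_cases hij : i = j
    · subst hij
      rcases le_total 0 (l i) with h | h
      · have : (-l i).toNat = 0 := by omega
        simp [this]
      · have : (l i).toNat = 0 := by omega
        simp [this]
    by_cases hi : l i = 0
    · simp [hi]
    by_cases hj : l j = 0
    · simp [hj]
    have h := rootForm_le_zero (h1 j (hlΔ j hj) i (hlΔ i hi) (Ne.symm hij))
    exact mul_nonpos_of_nonneg_of_nonpos (Int.natCast_nonneg _)
      (mul_nonpos_of_nonneg_of_nonpos (Int.natCast_nonneg _) h)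
  have key : ∀ m : ι → ℕ, (∀ i, m i ≠ 0 → i ∈ Δ) → ∑ i, m i • P.root i = 0 → ∀ i, m i = 0 := by
    intro m hm hm0 i
    by_contra hi
    refine h2 (∑ i, m i • {i}) ?_ ?_ ?_
    · intro j hj
      obtain ⟨k, -, hk⟩ := Multiset.mem_sum.mp hj
      have hk' := Multiset.mem_of_mem_nsmul hk
      have : j = k := by simpa using hk'
      subst this
      refine hm j fun h => ?_
      rw [h] at hk; simp at hk
    · intro h
      have h' := congrArg (Multiset.count i) h
      rw [Multiset.count_sum', Multiset.count_zero] at h'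
      have h'' := (Finset.sum_eq_zero_iff.mp h') i (Finset.mem_univ i)
      simp at h''
      exact hi h''
    · have : ∀ s : Finset ι, msum P (∑ i ∈ s, m i • {i}) = ∑ i ∈ s, m i • P.root i := by
        intro s
        induction s using Finset.induction_on with
        | empty => simp
        | insert a s ha ih => rw [Finset.sum_insert ha, msum_add, ih, Finset.sum_insert ha,
            msum_nsmul, msum_singleton]
      rw [this, hm0]
  have ha := key (fun i => (l i).toNat) (fun i hi => hlΔ i (by intro h; simp [h] at hi)) hx0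
  have hb := key (fun i => (-l i).toNat) (fun i hi => hlΔ i (by intro h; simp [h] at hi))
    (by rw [← hx0, hxy'])
  ext i
  have h1 := ha i
  have h2 := hb i
  simp only [Finsupp.coe_zero, Pi.zero_apply]
  omega

/-- Two indecomposable elements of a positive system make an obtuse angle. -/
theorem pairing_le_zero_of_indec {S : Set ι} (hS : IsPosSys P S) {i j : ι} (hi : i ∈ indec P S)
    (hj : j ∈ indec P S) (hij : i ≠ j) : P.pairing i j ≤ 0 := by
  by_contra! h
  obtain ⟨l, hl⟩ := sub_mem_range h hij
  rcases hS.cover l with h' | h'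
  · exact hi.2 ⟨l, j, h', hj.1, by rw [hl]; abel⟩
  · exact hj.2 ⟨ng P l, i, h', hi.1, by rw [root_neg, hl]; abel⟩

theorem isSimpleSys_indec {S : Set ι} (hS : IsPosSys P S) : IsSimpleSys P (indec P S) where
  linInd := linInd_of_obtuse (fun _ hi _ hj hij => pairing_le_zero_of_indec hS hi hj hij)
    (fun _ hs hne => posSys_msum_ne_zero hS (fun i hi => (hs i hi).1) hne)
  mem_or_neg_mem i := by
    have hc := isClosedSub_of_isPosSys hS
    have h1 := isPosSys_disj hS
    rcases hS.cover i with h | h
    · exact Or.inl (mem_natSpan_indec hc h1 h)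
    · right
      rw [← root_neg]
      exact mem_natSpan_indec hc h1 h

end

/-! ### Coordinates along a simple system -/

section Simple

variable {Δ : Set ι} (hΔ : IsSimpleSys P Δ)

include hΔ in
theorem root_mem_span (i : ι) : P.root i ∈ Submodule.span ℤ (P.root '' Δ) := by
  rcases hΔ.mem_or_neg_mem i with h | h
  · exact mem_span_of_mem_natSpan h
  · rw [← Submodule.neg_mem_iff]; exact mem_span_of_mem_natSpan h

include hΔ in
theorem span_eq : Submodule.span ℤ (P.root '' Δ) = Submodule.span ℤ (Set.range P.root) := by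
  refine le_antisymm (Submodule.span_mono (Set.image_subset_range _ _)) ?_
  rw [Submodule.span_le]
  rintro _ ⟨i, rfl⟩
  exact root_mem_span hΔ i

/-- The basis of the root lattice given by a system of simple roots. -/
noncomputable def basis : Module.Basis Δ ℤ (Submodule.span ℤ (Set.range P.root)) :=
  (Module.Basis.span (v := fun i : Δ => P.root i) (by
      have h := hΔ.linInd
      rwa [LinearIndepOn] at h)).map
    (LinearEquiv.ofEq _ _ (by
      rw [← span_eq hΔ]
      congr 1
      ext x
      simp))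

@[simp] theorem basis_apply (i : Δ) : (basis hΔ i : M) = P.root i := by
  simp [basis, Module.Basis.span_apply]

/-- The coordinate of an element of the root lattice along the root with index `i` (zero when `i`
is not in `Δ`). -/
noncomputable def co (i : ι) : Submodule.span ℤ (Set.range P.root) →ₗ[ℤ] ℤ :=
  open Classical in if h : i ∈ Δ then (basis hΔ).coord ⟨i, h⟩ else 0

/-- The coefficient of the root with index `k` along the root with index `i` of the simple system
`Δ` (zero when `i` is not in `Δ`). -/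
noncomputable def cf (k i : ι) : ℤ := co hΔ i ⟨P.root k, Submodule.subset_span ⟨k, rfl⟩⟩

theorem co_of_notMem {i : ι} (h : i ∉ Δ) (x) : co hΔ i x = 0 := by simp [co, h]

theorem co_of_mem {i : ι} (h : i ∈ Δ) (x) : co hΔ i x = (basis hΔ).repr x ⟨i, h⟩ := by
  simp [co, h]

theorem cf_of_notMem {i : ι} (h : i ∉ Δ) (k : ι) : cf hΔ k i = 0 := co_of_notMem hΔ h _

theorem cf_simple [DecidableEq ι] {k : ι} (hk : k ∈ Δ) (i : ι) :
    cf hΔ k i = if i = k then 1 else 0 := by
  have hb : (⟨P.root k, Submodule.subset_span ⟨k, rfl⟩⟩ : Submodule.span ℤ (Set.range P.root)) =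
      basis hΔ ⟨k, hk⟩ := Subtype.ext (by simp)
  by_cases hi : i ∈ Δ
  · rw [cf, co_of_mem hΔ hi, hb, Module.Basis.repr_self, Finsupp.single_apply]
    simp only [Subtype.mk.injEq]
    by_cases h : k = i
    · simp [h]
    · simp [h, Ne.symm h]
  · rw [cf_of_notMem hΔ hi, if_neg]
    rintro rfl
    exact hi hk

theorem cf_self {k : ι} (hk : k ∈ Δ) : cf hΔ k k = 1 := by
  classical
  rw [cf_simple hΔ hk, if_pos rfl]

theorem cf_ne {k i : ι} (hk : k ∈ Δ) (h : i ≠ k) : cf hΔ k i = 0 := by
  classical
  rw [cf_simple hΔ hk, if_neg h]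

theorem co_sum [Fintype ι] (x : Submodule.span ℤ (Set.range P.root)) :
    (x : M) = ∑ i, co hΔ i x • P.root i := by
  classical
  have h1 := (basis hΔ).sum_repr x
  have h2 : ∑ i, co hΔ i x • P.root i = ∑ i : Δ, co hΔ i x • P.root i := by
    rw [← Finset.sum_subtype (Finset.univ.filter (· ∈ Δ)) (by simp)
      (fun i => co hΔ i x • P.root i), Finset.sum_filter_of_ne]
    intro i _ hi
    by_contra h
    simp [co_of_notMem hΔ h] at hi
  have h3 := congrArg (fun z : Submodule.span ℤ (Set.range P.root) => (z : M)) h1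
  simp only [Submodule.coe_sum, Submodule.coe_smul, basis_apply] at h3
  rw [h2, ← h3]
  exact Finset.sum_congr rfl fun i _ => by rw [co_of_mem hΔ i.2]

theorem root_eq_sum [Fintype ι] (k : ι) : P.root k = ∑ i, cf hΔ k i • P.root i :=
  co_sum hΔ ⟨P.root k, Submodule.subset_span ⟨k, rfl⟩⟩

/-- Coordinates are determined by the element. -/
theorem co_eq_of_sum [Fintype ι] {c : ι → ℤ} (hc : ∀ i, i ∉ Δ → c i = 0)
    {x : Submodule.span ℤ (Set.range P.root)} (hx : (x : M) = ∑ i, c i • P.root i) (i : ι) :
    co hΔ i x = c i := by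
  classical
  have hx' : x = ∑ j, c j • (⟨P.root j, Submodule.subset_span ⟨j, rfl⟩⟩ :
      Submodule.span ℤ (Set.range P.root)) := Subtype.ext (by
    rw [hx]; simp)
  rw [hx', map_sum]
  simp only [map_smul, smul_eq_mul]
  rw [Finset.sum_eq_single i]
  · by_cases hi : i ∈ Δ
    · have := cf_self hΔ hi
      rw [cf] at this
      rw [this, mul_one]
    · rw [hc i hi, zero_mul]
  · intro j _ hj
    by_cases hjΔ : j ∈ Δ
    · have := cf_ne hΔ hjΔ (i := i) (Ne.symm hj)
      rw [cf] at this
      rw [this, mul_zero]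
    · rw [hc j hjΔ, zero_mul]
  · simp

theorem cf_eq_of_sum [Fintype ι] {c : ι → ℤ} (hc : ∀ i, i ∉ Δ → c i = 0) {k : ι}
    (hk : P.root k = ∑ i, c i • P.root i) (i : ι) : cf hΔ k i = c i :=
  co_eq_of_sum hΔ hc hk i

theorem cf_add {i j k : ι} (h : P.root k = P.root i + P.root j) (l : ι) :
    cf hΔ k l = cf hΔ i l + cf hΔ j l := by
  rw [cf, cf, cf, ← map_add]
  congr 1
  exact Subtype.ext (by simpa using h)

theorem cf_smul_add_smul {i j k : ι} {a b : ℤ} (h : P.root k = a • P.root i + b • P.root j)
    (l : ι) : cf hΔ k l = a * cf hΔ i l + b * cf hΔ j l := by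
  rw [cf, cf, cf, ← smul_eq_mul, ← smul_eq_mul, ← map_smul, ← map_smul, ← map_add]
  congr 1
  exact Subtype.ext (by simpa using h)

theorem cf_smul {i k : ι} {a : ℤ} (h : P.root k = a • P.root i) (l : ι) :
    cf hΔ k l = a * cf hΔ i l := by
  rw [cf_smul_add_smul hΔ (a := a) (b := 0) (i := i) (j := i) (by rw [h]; simp)]
  ring

theorem cf_neg (i l : ι) : cf hΔ (ng P i) l = - cf hΔ i l := by
  rw [cf_smul hΔ (a := -1) (i := i) (by simp)]
  ring

theorem cf_refl (i k l : ι) :
    cf hΔ (P.reflectionPerm i k) l = cf hΔ k l - P.pairing k i * cf hΔ i l := by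
  rw [cf_smul_add_smul hΔ (a := 1) (b := - P.pairing k i) (i := k) (j := i)
    (by rw [P.root_reflectionPerm, P.reflection_apply_root]; simp [sub_eq_add_neg])]
  ring

/-- The reflection in a simple root only changes the coordinate along this simple root. -/
theorem cf_refl_of_ne {i k l : ι} (hi : i ∈ Δ) (h : l ≠ i) :
    cf hΔ (P.reflectionPerm i k) l = cf hΔ k l := by
  rw [cf_refl, cf_ne hΔ hi h]; ring

theorem cf_refl_self {i k : ι} (hi : i ∈ Δ) :
    cf hΔ (P.reflectionPerm i k) i = cf hΔ k i - P.pairing k i := by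
  rw [cf_refl, cf_self hΔ hi]; ring

/-- Membership in the monoid generated by the simple roots is non-negativity of the coordinates. -/
theorem mem_natSpan_iff_co [Finite ι] {x : M} (hx : x ∈ Submodule.span ℤ (Set.range P.root)) :
    x ∈ natSpan P Δ ↔ ∀ i, 0 ≤ co hΔ i ⟨x, hx⟩ := by
  classical
  have : Fintype ι := Fintype.ofFinite ι
  constructor
  · intro h
    revert hx
    refine AddSubmonoid.closure_induction (motive := fun x _ => ∀ hx : x ∈ Submodule.span ℤ
      (Set.range P.root), ∀ i, 0 ≤ co hΔ i ⟨x, hx⟩) ?_ ?_ ?_ h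
    · rintro _ ⟨k, hk, rfl⟩ hx i
      have := cf_simple hΔ hk i
      rw [cf] at this
      rw [this]
      split_ifs <;> omega
    · intro hx i
      have : (⟨0, hx⟩ : Submodule.span ℤ (Set.range P.root)) = 0 := rfl
      rw [this, map_zero]
    · intro x y hx hy ihx ihy hxy i
      have hx' : x ∈ Submodule.span ℤ (Set.range P.root) := by
        rw [← span_eq hΔ]; exact mem_span_of_mem_natSpan hx
      have hy' : y ∈ Submodule.span ℤ (Set.range P.root) := by
        rw [← span_eq hΔ]; exact mem_span_of_mem_natSpan hy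
      have : (⟨x + y, hxy⟩ : Submodule.span ℤ (Set.range P.root)) = ⟨x, hx'⟩ + ⟨y, hy'⟩ := rfl
      rw [this, map_add]
      exact add_nonneg (ihx hx' i) (ihy hy' i)
  · intro h
    have hs := co_sum hΔ ⟨x, hx⟩
    change x = _ at hs
    rw [hs]
    refine AddSubmonoid.sum_mem _ fun i _ => ?_
    by_cases hi : i ∈ Δ
    · obtain ⟨n, hn⟩ := Int.eq_ofNat_of_zero_le (h i)
      rw [hn]
      simp only [natCast_zsmul]
      exact nsmul_mem (root_mem_natSpan hi) n
    · rw [co_of_notMem hΔ hi, zero_smul]
      exact zero_mem _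

theorem mem_posOf_iff [Finite ι] {k : ι} : k ∈ posOf P Δ ↔ ∀ i, 0 ≤ cf hΔ k i :=
  mem_natSpan_iff_co hΔ _

theorem neg_mem_posOf_iff [Finite ι] {k : ι} : ng P k ∈ posOf P Δ ↔ ∀ i, cf hΔ k i ≤ 0 := by
  rw [mem_posOf_iff hΔ]
  simp only [cf_neg, Left.nonneg_neg_iff]

theorem cf_sign [Finite ι] (k : ι) : (∀ i, 0 ≤ cf hΔ k i) ∨ (∀ i, cf hΔ k i ≤ 0) := by
  rw [← mem_posOf_iff hΔ, ← neg_mem_posOf_iff hΔ]
  rcases hΔ.mem_or_neg_mem k with h | h
  · exact Or.inl h
  · right
    change P.root (ng P k) ∈ natSpan P Δ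
    rwa [root_neg]

theorem exists_cf_ne_zero [Finite ι] (k : ι) : ∃ i ∈ Δ, cf hΔ k i ≠ 0 := by
  have : Fintype ι := Fintype.ofFinite ι
  by_contra! h
  have h' : ∀ i, cf hΔ k i = 0 := fun i => by
    by_cases hi : i ∈ Δ
    · exact h i hi
    · exact cf_of_notMem hΔ hi k
  have := root_eq_sum hΔ k
  simp only [h', zero_smul, Finset.sum_const_zero] at this
  exact P.ne_zero k this

/-- A root with a positive coordinate is positive. -/
theorem mem_posOf_of_pos [Finite ι] {k i : ι} (h : 0 < cf hΔ k i) : k ∈ posOf P Δ := by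
  rw [mem_posOf_iff hΔ]
  rcases cf_sign hΔ k with h' | h'
  · exact h'
  · exact absurd (h' i) (by omega)

theorem neg_mem_posOf_of_neg [Finite ι] {k i : ι} (h : cf hΔ k i < 0) : ng P k ∈ posOf P Δ := by
  rw [neg_mem_posOf_iff hΔ]
  rcases cf_sign hΔ k with h' | h'
  · exact absurd (h' i) (by omega)
  · exact h'

theorem exists_cf_pos [Finite ι] {k : ι} (hk : k ∈ posOf P Δ) : ∃ i ∈ Δ, 0 < cf hΔ k i := by
  obtain ⟨i, hi, h⟩ := exists_cf_ne_zero hΔ k
  exact ⟨i, hi, lt_of_le_of_ne ((mem_posOf_iff hΔ).mp hk i) (Ne.symm h)⟩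

omit hΔ in
theorem subset_posOf : Δ ⊆ posOf P Δ := fun _ hi => root_mem_natSpan hi

include hΔ in
/-- The positive roots of a simple system form a positive system. -/
theorem isPosSys_posOf [Finite ι] : IsPosSys P (posOf P Δ) := by
  refine isPosSys_of_closed ?_ ?_ ?_
  · intro i hi hi'
    rw [mem_posOf_iff hΔ] at hi
    rw [neg_mem_posOf_iff hΔ] at hi'
    obtain ⟨j, -, hj⟩ := exists_cf_ne_zero hΔ i
    exact hj (le_antisymm (hi' j) (hi j))
  · intro i
    rw [mem_posOf_iff hΔ, neg_mem_posOf_iff hΔ]
    exact cf_sign hΔ i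
  · intro i j k hi hj hk
    change P.root k ∈ natSpan P Δ
    rw [hk]
    exact add_mem hi hj

include hΔ in
/-- A simple system contained in a positive system has this system as its positive roots. -/
theorem posOf_eq_of_subset [Finite ι] {S : Set ι} (hS : IsPosSys P S) (h : Δ ⊆ S) :
    posOf P Δ = S := by
  have hc := isClosedSub_of_isPosSys hS
  have h1 : posOf P Δ ⊆ S := fun k hk => mem_of_closed hc (natSpan_mono h hk)
  refine Set.Subset.antisymm h1 fun k hk => ?_
  by_contra hk'
  have := h1 ((neg_mem_iff (isPosSys_posOf hΔ)).mpr hk')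
  exact hS.disjoint hk this

/-- A positive non-simple root is the sum of a positive root and a simple root. -/
theorem exists_sub_simple [Finite ι] {k : ι} (hk : k ∈ posOf P Δ) (hkΔ : k ∉ Δ) :
    ∃ i ∈ Δ, ∃ l ∈ posOf P Δ, 0 < P.pairing k i ∧ P.root k = P.root l + P.root i := by
  classical
  obtain ⟨s, hs, hsum⟩ := mem_natSpan_iff.mp (show P.root k ∈ natSpan P Δ from hk)
  obtain ⟨i, hi, hpos, l, hl⟩ := exists_sub_of_msum_eq_root hsum (fun h => hkΔ (hs k h))
  refine ⟨i, hs i hi, l, ?_, pairing_pos_comm.mp hpos, by rw [hl]; abel⟩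
  refine mem_natSpan_iff.mpr ⟨s.erase i, fun j hj => hs j (Multiset.mem_of_mem_erase hj), ?_⟩
  rw [hl, ← hsum, ← Multiset.cons_erase hi, msum_cons, Multiset.erase_cons_head]
  abel

include hΔ in
/-- A simple root is not the sum of two positive roots. -/
theorem simple_indec [Finite ι] {k : ι} (hk : k ∈ Δ) : k ∈ indec P (posOf P Δ) := by
  refine ⟨subset_posOf hk, ?_⟩
  rintro ⟨i, j, hi, hj, h⟩
  rw [mem_posOf_iff hΔ] at hi hj
  have h1 : ∀ l, cf hΔ k l = cf hΔ i l + cf hΔ j l := cf_add hΔ h
  obtain ⟨a, -, ha⟩ := exists_cf_ne_zero hΔ i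
  obtain ⟨b, -, hb⟩ := exists_cf_ne_zero hΔ j
  have ha' : a = k := by
    by_contra hne
    have := h1 a
    rw [cf_ne hΔ hk hne] at this
    have := hi a; have := hj a
    omega
  have hb' : b = k := by
    by_contra hne
    have := h1 b
    rw [cf_ne hΔ hk hne] at this
    have := hi b; have := hj b
    omega
  subst ha'
  subst hb'
  have := h1 b
  rw [cf_self hΔ hk] at this
  have := hi b; have := hj b
  omega

include hΔ in
theorem indec_posOf [Finite ι] : indec P (posOf P Δ) = Δ := by
  refine Set.Subset.antisymm (fun k hk => ?_) (fun k hk => simple_indec hΔ hk)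
  by_contra hkΔ
  obtain ⟨i, hi, l, hl, -, h⟩ := exists_sub_simple (Δ := Δ) hk.1 hkΔ
  exact hk.2 ⟨l, i, hl, subset_posOf hi, h⟩

include hΔ in
/-- Uniqueness: a simple system contained in a positive system consists of its indecomposable
elements. -/
theorem eq_indec [Finite ι] {S : Set ι} (hS : IsPosSys P S) (h : Δ ⊆ S) : Δ = indec P S := by
  rw [← posOf_eq_of_subset hΔ hS h, indec_posOf hΔ]

include hΔ in
/-- Simple roots are indivisible. -/
theorem isIndiv_simple {i : ι} (hi : i ∈ Δ) : IsIndiv P i := by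
  intro j hj
  have := cf_smul hΔ (a := 2) (i := j) (k := i) hj.symm i
  rw [cf_self hΔ hi] at this
  omega

end Simple

section Exist

variable [Finite ι]

theorem posOf_indec {S : Set ι} (hS : IsPosSys P S) : posOf P (indec P S) = S :=
  posOf_eq_of_subset (isSimpleSys_indec hS) hS (indec_subset S)

theorem existsUnique_simple {S : Set ι} (hS : IsPosSys P S) :
    ∃! Δ : Set ι, IsSimpleSys P Δ ∧ Δ ⊆ S :=
  ⟨indec P S, ⟨isSimpleSys_indec hS, indec_subset S⟩, fun _ h => eq_indec h.1 hS h.2⟩

/-- Every set of roots no non-empty sum of which vanishes is contained in a positive system. -/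
theorem exists_posSys_of_pointed {T : Set ι}
    (hT : ∀ s : Multiset ι, (∀ i ∈ s, i ∈ T) → s ≠ 0 → msum P s ≠ 0) :
    ∃ S : Set ι, IsPosSys P S ∧ T ⊆ S := by
  classical
  let 𝒮 : Set (Set ι) := {T' | T ⊆ T' ∧ ∀ s : Multiset ι, (∀ i ∈ s, i ∈ T') → s ≠ 0 → msum P s ≠ 0}
  obtain ⟨S, hS, hmax⟩ := (Set.toFinite 𝒮).exists_maximal ⟨T, subset_rfl, hT⟩
  obtain ⟨hTS, hpt⟩ := hS
  -- for each root either it is in `S`, or a positive multiple of its opposite is a sum of `S`
  have key : ∀ k, k ∉ S → ∃ n : ℕ, 0 < n ∧ ∃ s : Multiset ι, (∀ i ∈ s, i ∈ S) ∧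
      msum P s = - (n • P.root k) := by
    intro k hk
    by_contra! hc
    refine hk (hmax (y := insert k S) ⟨hTS.trans (Set.subset_insert _ _), ?_⟩
      (Set.subset_insert _ _) (Set.mem_insert _ _))
    intro s hs hne h0
    by_cases hks : k ∈ s
    · have hcount : 0 < s.count k := Multiset.count_pos.mpr hks
      refine hc _ hcount (s.filter (· ≠ k)) ?_ ?_
      · intro i hi
        obtain ⟨h1, h2⟩ := Multiset.mem_filter.mp hi
        exact (hs i h1).resolve_left h2
      · have hsplit : s = s.filter (· ≠ k) + Multiset.replicate (s.count k) k := by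
          conv_lhs => rw [← Multiset.filter_add_not (· ≠ k) s]
          congr 1
          rw [← Multiset.filter_eq' s k]
          simp
        have := congrArg (msum P) hsplit
        rw [h0, msum_add, msum_replicate] at this
        exact (neg_eq_of_add_eq_zero_left this.symm).symm
    · refine hpt s (fun i hi => (hs i hi).resolve_left ?_) hne h0
      rintro rfl
      exact hks hi
  refine ⟨S, ?_, hTS⟩
  have hcl : IsClosedSub P S := by
    intro i j k hi hj hk
    by_contra hkS
    obtain ⟨n, hn, s, hs, hsum⟩ := key k hkS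
    refine hpt (s + Multiset.replicate n i + Multiset.replicate n j) ?_ ?_ ?_
    · intro a ha
      rcases Multiset.mem_add.mp ha with ha | ha
      · rcases Multiset.mem_add.mp ha with ha | ha
        · exact hs a ha
        · rwa [Multiset.eq_of_mem_replicate ha]
      · rwa [Multiset.eq_of_mem_replicate ha]
    · intro h
      have := congrArg Multiset.card h
      simp at this
      omega
    · rw [msum_add, msum_add, hsum, msum_replicate, msum_replicate, hk, smul_add]
      abel
  refine isPosSys_of_closed ?_ ?_ hcl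
  · intro i hi hi'
    refine hpt (i ::ₘ {ng P i}) ?_ (by simp) (by simp)
    intro a ha
    simp only [Multiset.mem_cons, Multiset.mem_singleton] at ha
    rcases ha with rfl | rfl
    exacts [hi, hi']
  · intro k
    by_contra! hc
    obtain ⟨n, hn, s, hs, hsum⟩ := key k hc.1
    obtain ⟨m, hm, t, ht, htsum⟩ := key (ng P k) hc.2
    have h1 : msum P (m • s + n • t) = 0 := by
      rw [msum_add, msum_nsmul, msum_nsmul, hsum, htsum, root_neg]
      simp only [smul_neg, neg_neg, smul_smul, mul_comm m n]
      abel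
    have h2 : m • s + n • t = 0 := by
      by_contra hne
      refine hpt _ ?_ hne h1
      intro i hi
      rcases Multiset.mem_add.mp hi with h | h
      exacts [hs i (Multiset.mem_of_mem_nsmul h), ht i (Multiset.mem_of_mem_nsmul h)]
    have h3 : s = 0 := by
      have := congrArg Multiset.card h2
      simp only [Multiset.card_add, Multiset.card_nsmul, Multiset.card_zero] at this
      have h4 : m * s.card = 0 := by
        have := Nat.eq_zero_of_add_eq_zero_right this
        simpa using this
      exact Multiset.card_eq_zero.mp ((Nat.mul_eq_zero.mp h4).resolve_left hm.ne')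
    rw [h3, msum_zero] at hsum
    have := torsionFree_left P
    have h5 : n • P.root k = 0 := neg_eq_zero.mp hsum.symm
    exact P.ne_zero k ((smul_eq_zero_iff_right hn.ne').mp h5)

variable (P) in
theorem exists_posSys : ∃ S : Set ι, IsPosSys P S := by
  obtain ⟨S, hS, -⟩ := exists_posSys_of_pointed (P := P) (T := ∅) (fun s hs hne => by
    obtain ⟨i, hi⟩ := Multiset.exists_mem_of_ne_zero hne
    exact absurd (hs i hi) (by simp))
  exact ⟨S, hS⟩

variable (P) in
theorem exists_simpleSys : ∃ Δ : Set ι, IsSimpleSys P Δ := by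
  obtain ⟨S, hS⟩ := exists_posSys P
  exact ⟨_, isSimpleSys_indec hS⟩

end Exist

end K219.Pos
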