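import Mathlib.LinearAlgebra.RootSystem.WeylGroup
import Groth.Agent.RootD.K219.Pos
import Groth.Agent.RootD.K221.Prop

/-!
The Weyl group of a root datum `P : RootPairing ι ℤ M N`, `[Finite ι]`, non-reduced allowed:
faithfulness on roots, a simple reflection permutes the positive roots not proportional to the
simple root, conjugacy of positive systems and of simple systems.
-/

set_option autoImplicit false

namespace K219.Weyl

open RootPairing Set K219.Basic K219.Pos RootD
open scoped Pointwise

variable {ι M N : Type*} [AddCommGroup M] [AddCommGroup N] {P : RootPairing ι ℤ M N}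

theorem root_smul (g : P.Aut) (i : ι) : P.root (g • i) = g • P.root i :=
  Equiv.root_indexEquiv_eq_smul P i g

@[simp] theorem refl_smul_idx (j i : ι) : Equiv.reflection P j • i = P.reflectionPerm j i := rfl

theorem refl_mem (i : ι) : Equiv.reflection P i ∈ P.weylGroup := P.reflection_mem_weylGroup i

theorem smul_ng (g : P.Aut) (i : ι) : g • ng P i = ng P (g • i) := by
  apply P.root.injective
  rw [root_smul, root_neg, root_neg, root_smul, smul_neg]

theorem smul_toLin (g : P.Aut) (m : M) (i : ι) :
    P.toLinearMap (g • m) (P.coroot (g • i)) = P.toLinearMap m (P.coroot i) := by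
  have h1 := LinearMap.congr_fun (Hom.weight_coweight_transpose_apply P P (P.coroot (g • i)) g.toHom) m
  have h2 : g.toHom.coweightMap (P.coroot (g • i)) = P.coroot i := by
    have := congr_fun g.coroot_coweightMap (g • i)
    simp only [Function.comp_apply] at this
    rw [this]
    congr 1
    exact g.indexEquiv.symm_apply_apply i
  rw [h2] at h1
  exact h1

theorem coroot'_smul (g : P.Aut) (m : M) (i : ι) :
    P.coroot' (g • i) (g • m) = P.coroot' i m := smul_toLin g m i

theorem pairing_smul (g : P.Aut) (i j : ι) : P.pairing (g • i) (g • j) = P.pairing i j := by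
  have := coroot'_smul g (P.root i) j
  rw [← root_smul] at this
  simpa using this

/-- An automorphism is determined by its action on the weight lattice. -/
theorem aut_ext {g h : P.Aut} (hgh : ∀ m : M, g • m = h • m) : g = h := by
  apply Equiv.weightHom_injective P
  ext m
  exact hgh m

/-- Automorphisms permute the positive systems. -/
theorem natSpan_image (g : P.Aut) (S : Set ι) (x : M) :
    g • x ∈ natSpan P ((fun i => g • i) '' S) ↔ x ∈ natSpan P S := by
  have key : ∀ (g : P.Aut) (S : Set ι) (x : M), x ∈ natSpan P S →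
      g • x ∈ natSpan P ((fun i => g • i) '' S) := by
    intro g S x hx
    refine AddSubmonoid.closure_induction ?_ ?_ ?_ hx
    · rintro _ ⟨i, hi, rfl⟩
      rw [← root_smul]
      exact root_mem_natSpan ⟨i, hi, rfl⟩
    · rw [smul_zero]; exact zero_mem _
    · intro x y _ _ hx hy
      rw [smul_add]
      exact add_mem hx hy
  refine ⟨fun h => ?_, key g S x⟩
  have := key g⁻¹ _ _ h
  rw [inv_smul_smul, ← Set.image_comp] at this
  simpa [Function.comp_def] using this

theorem isPosSys_image {S : Set ι} (hS : IsPosSys P S) (g : P.Aut) :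
    IsPosSys P ((fun i => g • i) '' S) where
  disjoint := by
    rintro _ ⟨i, hi, rfl⟩ ⟨j, hj, h⟩
    have : j = ng P i := by
      have h' : g • j = g • ng P i := by rw [smul_ng]; exact h
      exact MulAction.injective g h'
    exact hS.disjoint hi (show ng P i ∈ S by rw [← this]; exact hj)
  cover i := by
    rcases hS.cover (g⁻¹ • i) with h | h
    · exact Or.inl ⟨_, h, by simp⟩
    · refine Or.inr ⟨_, h, ?_⟩
      change g • ng P (g⁻¹ • i) = ng P i
      rw [smul_ng, smul_inv_smul]
  sat k n hn hk := by
    refine ⟨g⁻¹ • k, hS.sat n hn ?_, by simp⟩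
    rw [← natSpan_image g, smul_comm g n, ← root_smul, smul_inv_smul]
    exact hk

theorem posOf_image {Δ : Set ι} (g : P.Aut) :
    posOf P ((fun i => g • i) '' Δ) = (fun i => g • i) '' posOf P Δ := by
  ext k
  constructor
  · intro hk
    refine ⟨g⁻¹ • k, ?_, by simp⟩
    change P.root (g⁻¹ • k) ∈ natSpan P Δ
    rw [← natSpan_image g, ← root_smul, smul_inv_smul]
    exact hk
  · rintro ⟨k, hk, rfl⟩
    change P.root (g • k) ∈ natSpan P _
    rw [root_smul, natSpan_image]
    exact hk

theorem isSimpleSys_image {Δ : Set ι} (hΔ : IsSimpleSys P Δ) (g : P.Aut) :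
    IsSimpleSys P ((fun i => g • i) '' Δ) where
  linInd := by
    have h1 : LinearIndepOn ℤ (fun i => P.root (g • i)) Δ := by
      have := hΔ.linInd.map_injOn (Equiv.weightHom P g).toLinearMap
        ((Equiv.weightHom P g).injective.injOn)
      have h2 : (fun i => P.root (g • i)) = (Equiv.weightHom P g).toLinearMap ∘ P.root := by
        ext i
        exact root_smul g i
      rw [h2]
      exact this
    exact LinearIndepOn.image_of_comp (fun i : ι => g • i) P.root h1
  mem_or_neg_mem k := by
    rcases hΔ.mem_or_neg_mem (g⁻¹ • k) with h | h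
    · left
      rw [← natSpan_image g, ← root_smul, smul_inv_smul] at h
      exact h
    · right
      rw [← natSpan_image g, smul_neg, ← root_smul, smul_inv_smul] at h
      exact h

section
variable [Finite ι]

/-- A Weyl group element (or any automorphism moving weights by rational combinations of roots)
which fixes all roots is trivial. -/
theorem eq_one_of_fix {g : P.Aut}
    (hs : ∀ m : M, ∃ n : ℕ, 0 < n ∧ n • (g • m - m) ∈ Submodule.span ℤ (Set.range P.root))
    (hfix : ∀ i : ι, g • i = i) : g = 1 := by
  refine aut_ext fun m => ?_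
  rw [one_smul]
  obtain ⟨n, hn, h⟩ := hs m
  refine sub_eq_zero.mp (eq_zero_of_coroot'_of_nsmul hn h fun i => ?_)
  rw [map_sub, sub_eq_zero]
  have := coroot'_smul g m i
  rwa [hfix i] at this

omit [Finite ι] in
theorem weyl_sub_mem {g : P.Aut} (hg : g ∈ P.weylGroup) (m : M) :
    g • m - m ∈ Submodule.span ℤ (Set.range P.root) := by
  revert m
  induction hg using weylGroup.induction with
  | mem i =>
    intro m
    rw [Equiv.reflection_smul, P.reflection_apply, sub_sub_cancel_left, ← neg_smul]
    exact Submodule.smul_mem _ _ (Submodule.subset_span ⟨i, rfl⟩)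
  | one => intro m; simp
  | mul x y hx hy ihx ihy =>
    intro m
    rw [mul_smul]
    have : x • y • m - m = (x • y • m - y • m) + (y • m - m) := by abel
    rw [this]
    exact Submodule.add_mem _ (ihx _) (ihy _)

theorem weyl_eq_one_of_fix {g : P.Aut} (hg : g ∈ P.weylGroup) (hfix : ∀ i : ι, g • i = i) :
    g = 1 :=
  eq_one_of_fix (fun m => ⟨1, one_pos, by simpa using weyl_sub_mem hg m⟩) hfix

variable {Δ : Set ι} (hΔ : IsSimpleSys P Δ)

include hΔ in
/-- A positive root supported on a single simple root `i` is `α_i` or `2 α_i`. -/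
theorem eq_or_two_of_support {k i : ι} (hk : k ∈ posOf P Δ)
    (h : ∀ l, l ≠ i → cf hΔ k l = 0) : k = i ∨ P.root k = (2 : ℤ) • P.root i := by
  classical
  have : Fintype ι := Fintype.ofFinite ι
  have h1 : (1 : ℤ) • P.root k = cf hΔ k i • P.root i := by
    rw [one_smul, root_eq_sum hΔ k, Finset.sum_eq_single i]
    · intro j _ hj; rw [h j hj, zero_smul]
    · simp
  have h2 : 0 < cf hΔ k i := by
    obtain ⟨j, -, hj⟩ := exists_cf_pos hΔ hk
    by_cases hji : j = i
    · rwa [hji] at hj
    · rw [h j hji] at hj; omega
  rcases K221.Prop.smul_cases_pos P h2 one_pos h1 with h | h | h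
  · exact Or.inl h.2
  · exact Or.inr h.2
  · omega

include hΔ in
/-- The reflection in a simple root `i` maps every positive root other than `α_i`, `2 α_i` to a
positive root. -/
theorem refl_mem_posOf {k i : ι} (hi : i ∈ Δ) (hk : k ∈ posOf P Δ) (hne : k ≠ i)
    (hne2 : P.root k ≠ (2 : ℤ) • P.root i) : P.reflectionPerm i k ∈ posOf P Δ := by
  have : ∃ l, l ≠ i ∧ 0 < cf hΔ k l := by
    by_contra! hc
    rcases eq_or_two_of_support hΔ hk (fun l hl =>
      le_antisymm (hc l hl) ((mem_posOf_iff hΔ).mp hk l)) with h | h
    exacts [hne h, hne2 h]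
  obtain ⟨l, hl, hpos⟩ := this
  exact mem_posOf_of_pos hΔ (i := l) (by rwa [cf_refl_of_ne hΔ hi hl])

omit [Finite ι] in
/-- The image of `posOf P Δ` under a simple reflection. -/
theorem mem_refl_image {k i : ι} :
    k ∈ (fun j => Equiv.reflection P i • j) '' posOf P Δ ↔ P.reflectionPerm i k ∈ posOf P Δ := by
  constructor
  · rintro ⟨j, hj, rfl⟩
    simpa using hj
  · intro h
    exact ⟨_, h, by simp⟩

/-- If `S` is a positive system and `P'` is a closed set of roots containing each root or its
opposite then some Weyl group translate of `S` is contained in `P'`. -/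
theorem exists_weyl_image_subset {S : Set ι} (hS : IsPosSys P S) {P' : Set ι}
    (hP2 : ∀ i : ι, i ∈ P' ∨ ng P i ∈ P') (hcl : IsClosedSub P P') :
    ∃ g : P.Aut, g ∈ P.weylGroup ∧ (fun i : ι => g • i) '' S ⊆ P' := by
  classical
  have hft : Fintype ι := Fintype.ofFinite ι
  -- induction on the number of elements of `S` outside `P'`
  induction hn : (S \ P').ncard using Nat.strong_induction_on generalizing S with
  | _ n ih =>
    set Δ := indec P S with hΔdef
    have hΔ : IsSimpleSys P Δ := isSimpleSys_indec hS
    have hSΔ : posOf P Δ = S := posOf_indec hS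
    by_cases hsub : Δ ⊆ P'
    · refine ⟨1, one_mem _, ?_⟩
      simp only [one_smul, Set.image_id']
      intro k hk
      rw [← hSΔ] at hk
      exact mem_of_closed hcl (natSpan_mono hsub hk)
    · obtain ⟨i, hi, hiP⟩ := Set.not_subset.mp hsub
      have hniP : ng P i ∈ P' := (hP2 i).resolve_left hiP
      set S' := (fun j => Equiv.reflection P i • j) '' S with hS'
      have hS'pos : IsPosSys P S' := isPosSys_image hS _
      have hmem : ∀ k, k ∈ S' ↔ P.reflectionPerm i k ∈ S := by
        intro k
        rw [hS', ← hSΔ]
        exact mem_refl_image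
      have hlt : (S' \ P').ncard < (S \ P').ncard := by
        refine Set.ncard_lt_ncard ⟨?_, ?_⟩ (Set.toFinite _)
        · rintro k ⟨hk, hkP⟩
          refine ⟨?_, hkP⟩
          rw [hmem, ← hSΔ] at hk
          -- `k = s_i (s_i k)`
          have hne : P.reflectionPerm i k ≠ i := by
            intro h
            have : k = ng P i := by
              rw [← P.reflectionPerm_self (i := i) (j := k), h]
            exact hkP (this ▸ hniP)
          have hne2 : P.root (P.reflectionPerm i k) ≠ (2 : ℤ) • P.root i := by
            intro h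
            refine hkP (hcl hniP hniP ?_)
            have : P.root k = P.reflection i (P.root (P.reflectionPerm i k)) := by simp
            rw [this, h, map_smul, P.reflection_apply_self, root_neg]
            module
          have := refl_mem_posOf hΔ hi hk hne hne2
          rw [P.reflectionPerm_self] at this
          rwa [hSΔ] at this
        · intro hcon
          have hiS : i ∈ S \ P' := ⟨hi.1, hiP⟩
          have h1 := (hcon hiS).1
          rw [hmem] at h1
          exact hS.disjoint hi.1 h1
      obtain ⟨g, hg, hsubg⟩ := ih _ (by rw [← hn]; exact hlt) hS'pos rfl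
      refine ⟨g * Equiv.reflection P i, mul_mem hg (refl_mem i), ?_⟩
      rintro _ ⟨k, hk, rfl⟩
      have := hsubg ⟨Equiv.reflection P i • k, ⟨k, hk, rfl⟩, rfl⟩
      change (g * Equiv.reflection P i) • k ∈ P'
      rw [mul_smul]
      exact this

omit [Finite ι] in
/-- Two positive systems, one contained in the other, are equal. -/
theorem eq_of_subset {S S' : Set ι} (hS : IsPosSys P S) (hS' : IsPosSys P S') (h : S ⊆ S') :
    S = S' := by
  refine Set.Subset.antisymm h fun k hk => ?_
  by_contra hkS
  exact hS'.disjoint hk (h ((neg_mem_iff hS).mpr hkS))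

/-- The Weyl group acts transitively on positive systems. -/
theorem exists_weyl_posSys {S S' : Set ι} (hS : IsPosSys P S) (hS' : IsPosSys P S') :
    ∃ g : P.Aut, g ∈ P.weylGroup ∧ (fun i : ι => g • i) '' S = S' := by
  obtain ⟨g, hg, h⟩ := exists_weyl_image_subset hS hS'.cover (isClosedSub_of_isPosSys hS')
  exact ⟨g, hg, eq_of_subset (isPosSys_image hS g) hS' h⟩

/-- The Weyl group acts transitively on simple systems. -/
theorem exists_weyl_simpleSys {Δ Δ' : Set ι} (hΔ : IsSimpleSys P Δ) (hΔ' : IsSimpleSys P Δ') :
    ∃ g : P.Aut, g ∈ P.weylGroup ∧ (fun i : ι => g • i) '' Δ = Δ' := by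
  obtain ⟨g, hg, h⟩ := exists_weyl_posSys (isPosSys_posOf hΔ) (isPosSys_posOf hΔ')
  refine ⟨g, hg, ?_⟩
  rw [← indec_posOf (isSimpleSys_image hΔ g), posOf_image, h, indec_posOf hΔ']

end

end K219.Weyl
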