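import Mathlib.LinearAlgebra.TensorProduct.Tower
import Mathlib.Algebra.Module.Submodule.Union
import Mathlib.RingTheory.Flat.TorsionFree
import Mathlib.RingTheory.Localization.BaseChange
import Groth.Agent.RootD.K219.Weyl
import Groth.Agent.RootD.K219.Cone

/-!
Closed sets of roots containing a positive system (parabolic sets), rationally saturated sets of
roots and extension of simple systems: S5458, S5459, S5460, S5461.
-/

set_option autoImplicit false

namespace K219.Par

open RootPairing Set K219.Basic K219.Pos K219.Weyl RootD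

variable {ι M N : Type*} [AddCommGroup M] [AddCommGroup N] {P : RootPairing ι ℤ M N} [Finite ι]

/-- Induction on positive roots: `p` holds for simple roots, and for a sum of a positive root for
which it holds and a simple root. -/
theorem posOf_induction {Δ : Set ι} (hΔ : IsSimpleSys P Δ) {p : ι → Prop} (h0 : ∀ i ∈ Δ, p i)
    (hadd : ∀ i j k, i ∈ Δ → j ∈ posOf P Δ → k ∈ posOf P Δ → P.root k = P.root j + P.root i →
      p j → p k) {k : ι} (hk : k ∈ posOf P Δ) : p k := by
  classical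
  have : Fintype ι := Fintype.ofFinite ι
  have key : ∀ (n : ℕ) (k : ι), k ∈ posOf P Δ → ∑ i, cf hΔ k i ≤ n → p k := by
    intro n
    induction n with
    | zero =>
      intro k hk hle
      exfalso
      obtain ⟨i, -, hi⟩ := exists_cf_pos hΔ hk
      have h1 := Finset.single_le_sum (s := Finset.univ) (f := fun i => cf hΔ k i)
        (fun i _ => (mem_posOf_iff hΔ).mp hk i) (Finset.mem_univ i)
      push_cast at hle
      omega
    | succ n ih =>
      intro k hk hle
      by_cases hkΔ : k ∈ Δ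
      · exact h0 k hkΔ
      obtain ⟨i, hi, l, hl, -, h⟩ := exists_sub_simple hk hkΔ
      refine hadd i l k hi hl hk h (ih l hl ?_)
      have h1 : ∑ a, cf hΔ k a = ∑ a, cf hΔ l a + ∑ a, cf hΔ i a := by
        rw [← Finset.sum_add_distrib]
        exact Finset.sum_congr rfl fun a _ => cf_add hΔ h a
      have h2 : ∑ a, cf hΔ i a = 1 := by
        rw [Finset.sum_eq_single i, cf_self hΔ hi]
        · intro b _ hb; exact cf_ne hΔ hi hb
        · simp
      push_cast at hle
      omega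
  obtain ⟨n, hn⟩ := Int.eq_ofNat_of_zero_le (a := ∑ i, cf hΔ k i)
    (Finset.sum_nonneg fun i _ => (mem_posOf_iff hΔ).mp hk i)
  exact key n k hk (by rw [hn])

/-- S5458 -/
theorem closed_superset_eq {S : Set ι} (hS : IsPosSys P S) {Δ : Set ι} (hΔ : IsSimpleSys P Δ)
    (hΔS : Δ ⊆ S) {P' : Set ι} (hcl : IsClosedSub P P') (hSP : S ⊆ P') :
    P' = S ∪ {k : ι | -P.root k ∈ natSpan P {i : ι | i ∈ Δ ∧ ng P i ∈ P'}} := by
  have hSeq : posOf P Δ = S := posOf_eq_of_subset hΔ hS hΔS
  refine Set.Subset.antisymm ?_ ?_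
  · intro k hk
    by_cases hkS : k ∈ S
    · exact Or.inl hkS
    right
    have hk' : ng P k ∈ posOf P Δ := by rw [hSeq]; exact (neg_mem_iff hS).mpr hkS
    have key : ∀ β ∈ posOf P Δ, ng P β ∈ P' →
        P.root β ∈ natSpan P {i : ι | i ∈ Δ ∧ ng P i ∈ P'} := by
      intro β hβ
      refine posOf_induction hΔ (p := fun β => ng P β ∈ P' →
        P.root β ∈ natSpan P {i : ι | i ∈ Δ ∧ ng P i ∈ P'}) ?_ ?_ hβ
      · intro i hi hiP
        exact root_mem_natSpan ⟨hi, hiP⟩
      · intro i j k hi hj hk h ih hkP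
        have hjP : ng P j ∈ P' := hcl hkP (hSP (hΔS hi)) (by
          rw [root_neg, root_neg, h]; abel)
        have hiP : ng P i ∈ P' := hcl hkP (hSP (hSeq ▸ hj)) (by
          rw [root_neg, root_neg, h]; abel)
        rw [h]
        exact add_mem (ih hjP) (root_mem_natSpan ⟨hi, hiP⟩)
    have := key (ng P k) hk' (by
      change P.reflectionPerm (P.reflectionPerm k k) (P.reflectionPerm k k) ∈ P'
      rwa [neg_neg_idx])
    rwa [root_neg] at this
  · rintro k (hk | hk)
    · exact hSP hk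
    · refine mem_of_closed hcl ?_
      have h1 : P.root k ∈ natSpan P ((fun i => ng P i) '' {i : ι | i ∈ Δ ∧ ng P i ∈ P'}) :=
        natSpan_neg.mpr hk
      refine natSpan_mono ?_ h1
      rintro _ ⟨i, ⟨-, hi⟩, rfl⟩
      exact hi

/-- S5459 -/
theorem exists_simple_of_closed {P' : Set ι} (hP2 : ∀ i : ι, i ∈ P' ∨ ng P i ∈ P')
    (hcl : IsClosedSub P P') :
    ∃ Δ Δ' : Set ι, IsSimpleSys P Δ ∧ Δ' ⊆ Δ ∧
      P' = posOf P Δ ∪ {k : ι | -P.root k ∈ natSpan P Δ'} := by
  obtain ⟨S₀, hS₀⟩ := exists_posSys P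
  obtain ⟨g, -, hg⟩ := exists_weyl_image_subset hS₀ hP2 hcl
  have hS := isPosSys_image hS₀ g
  refine ⟨indec P _, {i | i ∈ indec P _ ∧ ng P i ∈ P'}, isSimpleSys_indec hS, fun i h => h.1, ?_⟩
  rw [posOf_indec hS]
  exact closed_superset_eq hS (isSimpleSys_indec hS) (indec_subset _) hcl hg

/-- A set of roots is rationally saturated. -/
def Sat (P : RootPairing ι ℤ M N) (R' : Set ι) : Prop :=
  ∀ k : ι, (∃ n : ℕ, 0 < n ∧ n • P.root k ∈ Submodule.span ℤ (P.root '' R')) → k ∈ R'

omit [Finite ι] in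
theorem sat_neg {R' : Set ι} (h : Sat P R') {i : ι} (hi : i ∈ R') : ng P i ∈ R' :=
  h _ ⟨1, one_pos, by
    rw [one_smul, root_neg]
    exact Submodule.neg_mem _ (Submodule.subset_span ⟨i, hi, rfl⟩)⟩

omit [Finite ι] in
theorem sat_add {R' : Set ι} (h : Sat P R') {i j k : ι} (hi : i ∈ R') (hj : j ∈ R')
    (hk : P.root k = P.root i + P.root j) : k ∈ R' :=
  h _ ⟨1, one_pos, by
    rw [one_smul, hk]
    exact Submodule.add_mem _ (Submodule.subset_span ⟨i, hi, rfl⟩)
      (Submodule.subset_span ⟨j, hj, rfl⟩)⟩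

/-- A functional separating a saturated set of roots: it vanishes exactly on the roots of `R'`. -/
theorem exists_functional {R' : Set ι} (h : Sat P R') :
    ∃ f : M →+ ℚ, (∀ i ∈ R', f (P.root i) = 0) ∧ ∀ i, i ∉ R' → f (P.root i) ≠ 0 := by
  classical
  let K : Submodule ℤ M := Submodule.span ℤ (P.root '' R')
  let V := TensorProduct ℤ ℚ (M ⧸ K)
  let q : M →ₗ[ℤ] V := (TensorProduct.mk ℤ ℚ (M ⧸ K) 1).comp K.mkQ
  have hq : ∀ x : M, q x = 0 ↔ ∃ n : ℕ, 0 < n ∧ n • x ∈ K := by
    intro x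
    have hloc : IsLocalizedModule (nonZeroDivisors ℤ) (TensorProduct.mk ℤ ℚ (M ⧸ K) 1) := by
      infer_instance
    have h1 : q x = 0 ↔ ∃ c : nonZeroDivisors ℤ, c • (K.mkQ x) = 0 := by
      exact IsLocalizedModule.eq_zero_iff (nonZeroDivisors ℤ) (TensorProduct.mk ℤ ℚ (M ⧸ K) 1)
    rw [h1]
    constructor
    · rintro ⟨⟨c, hc⟩, hcx⟩
      have hc0 : c ≠ 0 := nonZeroDivisors.ne_zero hc
      refine ⟨c.natAbs, Int.natAbs_pos.mpr hc0, ?_⟩
      have h2 : c • x ∈ K := by
        rw [← Submodule.Quotient.mk_eq_zero]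
        exact hcx
      rw [← natCast_zsmul]
      rcases Int.natAbs_eq c with h | h
      · rwa [← h]
      · have : ((c.natAbs : ℕ) : ℤ) = -c := by omega
        rw [this, neg_smul]
        exact Submodule.neg_mem _ h2
    · rintro ⟨n, hn, hx⟩
      refine ⟨⟨(n : ℤ), mem_nonZeroDivisors_of_ne_zero (by exact_mod_cast hn.ne')⟩, ?_⟩
      change (n : ℤ) • K.mkQ x = 0
      rw [← map_smul, natCast_zsmul]
      exact (Submodule.Quotient.mk_eq_zero K).mpr hx
  let T := {i : ι // i ∉ R'}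
  obtain ⟨φ, hφ⟩ := Module.exists_dual_forall_apply_ne_zero (K := ℚ) (M := V) (ι := T)
    (fun i => q (P.root i)) (fun i hi => i.2 (h _ ((hq _).mp hi)))
  refine ⟨(φ.toAddMonoidHom).comp q.toAddMonoidHom, fun i hi => ?_, fun i hi => hφ ⟨i, hi⟩⟩
  have : q (P.root i) = 0 := (hq _).mpr ⟨1, one_pos, by
    rw [one_smul]; exact Submodule.subset_span ⟨i, hi, rfl⟩⟩
  change φ (q (P.root i)) = 0
  rw [this, map_zero]

/-- The span of a part of a simple system in coordinates. -/
theorem mem_span_sub_iff {Δ Δ' : Set ι} (hΔ : IsSimpleSys P Δ) (hsub : Δ' ⊆ Δ) {x : M}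
    (hx : x ∈ Submodule.span ℤ (Set.range P.root)) :
    x ∈ Submodule.span ℤ (P.root '' Δ') ↔ ∀ i, i ∉ Δ' → co hΔ i ⟨x, hx⟩ = 0 := by
  classical
  have : Fintype ι := Fintype.ofFinite ι
  constructor
  · intro h i hi
    have key : Submodule.span ℤ (P.root '' Δ') ≤
        (LinearMap.ker (co hΔ i)).map (Submodule.subtype _) := by
      rw [Submodule.span_le]
      rintro _ ⟨j, hj, rfl⟩
      refine ⟨⟨P.root j, Submodule.subset_span ⟨j, rfl⟩⟩, ?_, rfl⟩
      exact cf_ne hΔ (hsub hj) (by rintro rfl; exact hi hj)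
    obtain ⟨y, hy, hyx⟩ := key h
    have : y = ⟨x, hx⟩ := Subtype.ext hyx
    rw [← this]
    exact hy
  · intro h
    have hs := co_sum hΔ ⟨x, hx⟩
    change x = _ at hs
    rw [hs]
    refine Submodule.sum_mem _ fun i _ => ?_
    by_cases hi : i ∈ Δ'
    · exact Submodule.smul_mem _ _ (Submodule.subset_span ⟨i, hi, rfl⟩)
    · rw [h i hi, zero_smul]
      exact Submodule.zero_mem _

theorem mem_inSpan_iff {Δ Δ' : Set ι} (hΔ : IsSimpleSys P Δ) (hsub : Δ' ⊆ Δ) {k : ι} :
    k ∈ inSpan P Δ' ↔ ∀ i, i ∉ Δ' → cf hΔ k i = 0 :=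
  mem_span_sub_iff hΔ hsub _

omit [Finite ι] in
theorem span_inSpan (Δ' : Set ι) :
    Submodule.span ℤ (P.root '' inSpan P Δ') = Submodule.span ℤ (P.root '' Δ') := by
  refine le_antisymm ?_ ?_
  · rw [Submodule.span_le]
    rintro _ ⟨k, hk, rfl⟩
    exact hk
  · refine Submodule.span_mono (Set.image_mono fun i hi => ?_)
    exact Submodule.subset_span ⟨i, hi, rfl⟩

theorem sat_inSpan {Δ Δ' : Set ι} (hΔ : IsSimpleSys P Δ) (hsub : Δ' ⊆ Δ) :
    Sat P (inSpan P Δ') := by
  rintro k ⟨n, hn, hk⟩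
  rw [span_inSpan] at hk
  rw [mem_inSpan_iff hΔ hsub]
  have hx : n • P.root k ∈ Submodule.span ℤ (Set.range P.root) := by
    rw [← natCast_zsmul]
    exact Submodule.smul_mem _ _ (Submodule.subset_span ⟨k, rfl⟩)
  rw [mem_span_sub_iff hΔ hsub hx] at hk
  intro i hi
  have h1 := hk i hi
  have h2 : (⟨n • P.root k, hx⟩ : Submodule.span ℤ (Set.range P.root)) =
      (n : ℤ) • ⟨P.root k, Submodule.subset_span ⟨k, rfl⟩⟩ := Subtype.ext (by simp)
  rw [h2, map_smul, smul_eq_mul] at h1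
  exact (mul_eq_zero.mp h1).resolve_left (by exact_mod_cast hn.ne')

/-- S5461: a simple system of a saturated subset extends. -/
theorem extend {R' : Set ι} (hsat : Sat P R') {Δ' : Set ι} (hΔ'R : Δ' ⊆ R')
    (hli : LinearIndepOn ℤ P.root Δ')
    (hgen : ∀ k ∈ R', P.root k ∈ natSpan P Δ' ∨ -P.root k ∈ natSpan P Δ') :
    ∃ Δ : Set ι, IsSimpleSys P Δ ∧ Δ' ⊆ Δ ∧ R' = inSpan P Δ' := by
  obtain ⟨f, hf0, hf1⟩ := exists_functional hsat
  have hR' : R' = inSpan P Δ' := by
    refine Set.Subset.antisymm (fun k hk => ?_) (fun k hk => ?_)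
    · rcases hgen k hk with h | h
      · exact mem_span_of_mem_natSpan h
      · change P.root k ∈ Submodule.span ℤ (P.root '' Δ')
        rw [← neg_neg (P.root k)]
        exact Submodule.neg_mem _ (mem_span_of_mem_natSpan h)
    · refine hsat k ⟨1, one_pos, ?_⟩
      rw [one_smul]
      exact Submodule.span_mono (Set.image_mono hΔ'R) hk
  let S : Set ι := {k | (k ∉ R' ∧ 0 < f (P.root k)) ∨ (k ∈ R' ∧ P.root k ∈ natSpan P Δ')}
  have hfS : ∀ k ∈ S, 0 ≤ f (P.root k) := by
    rintro k (⟨-, h⟩ | ⟨h, -⟩)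
    · exact h.le
    · rw [hf0 k h]
  have hng : ∀ k, ng P k ∈ R' ↔ k ∈ R' := fun k => ⟨fun h => by
    have := sat_neg hsat h
    rwa [show ng P (ng P k) = k from neg_neg_idx k] at this, fun h => sat_neg hsat h⟩
  have hS : IsPosSys P S := by
    refine isPosSys_of_closed ?_ ?_ ?_
    · rintro k hk hk'
      rcases hk with ⟨hk, hfk⟩ | ⟨hk, hk2⟩
      · rcases hk' with ⟨-, h⟩ | ⟨h, -⟩
        · rw [root_neg, map_neg] at h
          linarith
        · exact hk ((hng k).mp h)
      · rcases hk' with ⟨h, -⟩ | ⟨-, h⟩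
        · exact h ((hng k).mpr hk)
        · rw [root_neg] at h
          obtain ⟨s, hs, hsum⟩ := mem_natSpan_iff.mp hk2
          obtain ⟨t, ht, htsum⟩ := mem_natSpan_iff.mp h
          refine Cone.msum_ne_zero_of_li hli (s := s + t) ?_ ?_ ?_
          · intro i hi
            rcases Multiset.mem_add.mp hi with h | h
            exacts [hs i h, ht i h]
          · rintro h0
            have h3 : s = 0 := by
              have := congrArg Multiset.card h0
              simp at this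
              exact this.1
            rw [h3, msum_zero] at hsum
            exact P.ne_zero k hsum.symm
          · rw [msum_add, hsum, htsum]; abel
    · intro k
      by_cases hk : k ∈ R'
      · rcases hgen k hk with h | h
        · exact Or.inl (Or.inr ⟨hk, h⟩)
        · exact Or.inr (Or.inr ⟨(hng k).mpr hk, by rwa [root_neg]⟩)
      · rcases lt_or_gt_of_ne (hf1 k hk) with h | h
        · refine Or.inr (Or.inl ⟨fun h' => hk ((hng k).mp h'), ?_⟩)
          rw [root_neg, map_neg]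
          linarith
        · exact Or.inl (Or.inl ⟨hk, h⟩)
    · intro i j k hi hj hk
      have hfi := hfS i hi
      have hfj := hfS j hj
      have hfk : f (P.root k) = f (P.root i) + f (P.root j) := by rw [hk, map_add]
      by_cases hkR : k ∈ R'
      · have h0 := hf0 k hkR
        have hiR : i ∈ R' := by
          by_contra h
          have := hf1 i h
          have : 0 < f (P.root i) := lt_of_le_of_ne hfi (Ne.symm this)
          linarith
        have hjR : j ∈ R' := by
          by_contra h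
          have := hf1 j h
          have : 0 < f (P.root j) := lt_of_le_of_ne hfj (Ne.symm this)
          linarith
        refine Or.inr ⟨hkR, ?_⟩
        rw [hk]
        exact add_mem (hi.resolve_left fun h => h.1 hiR).2 (hj.resolve_left fun h => h.1 hjR).2
      · refine Or.inl ⟨hkR, ?_⟩
        have := hf1 k hkR
        exact lt_of_le_of_ne (by rw [hfk]; linarith) (Ne.symm this)
  refine ⟨indec P S, isSimpleSys_indec hS, fun α hα => ?_, hR'⟩
  refine ⟨Or.inr ⟨hΔ'R hα, root_mem_natSpan hα⟩, ?_⟩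
  rintro ⟨β, γ, hβ, hγ, h⟩
  have h0 := hf0 α (hΔ'R hα)
  rw [h, map_add] at h0
  have hfβ := hfS β hβ
  have hfγ := hfS γ hγ
  have hβR : β ∈ R' := by
    by_contra hc
    exact hf1 β hc (by linarith)
  have hγR : γ ∈ R' := by
    by_contra hc
    exact hf1 γ hc (by linarith)
  obtain ⟨s, hs, hsum⟩ := mem_natSpan_iff.mp (hβ.resolve_left fun h => h.1 hβR).2
  obtain ⟨t, ht, htsum⟩ := mem_natSpan_iff.mp (hγ.resolve_left fun h => h.1 hγR).2
  have heq : ({α} : Multiset ι) = s + t := by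
    refine Cone.msum_inj hli (by simpa using hα) ?_ ?_
    · intro i hi
      rcases Multiset.mem_add.mp hi with h | h
      exacts [hs i h, ht i h]
    · rw [msum_singleton, msum_add, hsum, htsum, h]
  have hs0 : s ≠ 0 := by
    rintro rfl
    exact P.ne_zero β hsum.symm
  have ht0 : t ≠ 0 := by
    rintro rfl
    exact P.ne_zero γ htsum.symm
  have h1 := congrArg Multiset.card heq
  rw [Multiset.card_singleton, Multiset.card_add] at h1
  have h2 := Multiset.card_pos.mpr hs0
  have h3 := Multiset.card_pos.mpr ht0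
  omega

/-- A saturated set of roots has a simple system. -/
theorem exists_sub_simple_of_sat {R' : Set ι} (hsat : Sat P R') :
    ∃ Δ' : Set ι, Δ' ⊆ R' ∧ LinearIndepOn ℤ P.root Δ' ∧
      ∀ k ∈ R', P.root k ∈ natSpan P Δ' ∨ -P.root k ∈ natSpan P Δ' := by
  obtain ⟨S₀, hS₀⟩ := exists_posSys P
  have hcl : IsClosedSub P (S₀ ∩ R') := fun i j k hi hj hk =>
    ⟨isClosedSub_of_isPosSys hS₀ hi.1 hj.1 hk, sat_add hsat hi.2 hj.2 hk⟩
  have h1 : ∀ i ∈ S₀ ∩ R', ng P i ∉ S₀ ∩ R' := fun i hi hi' => hS₀.disjoint hi.1 hi'.1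
  refine ⟨indec P (S₀ ∩ R'), fun i hi => hi.1.2, ?_, ?_⟩
  · refine linInd_of_obtuse ?_ ?_
    · intro i hi j hj hij
      by_contra! h
      obtain ⟨l, hl⟩ := sub_mem_range h hij
      have hlR : l ∈ R' := sat_add hsat hi.1.2 (sat_neg hsat hj.1.2) (by
        rw [root_neg, hl]; abel)
      rcases hS₀.cover l with h' | h'
      · exact hi.2 ⟨l, j, ⟨h', hlR⟩, hj.1, by rw [hl]; abel⟩
      · exact hj.2 ⟨ng P l, i, ⟨h', sat_neg hsat hlR⟩, hi.1, by rw [root_neg, hl]; abel⟩
    · intro s hs hne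
      exact posSys_msum_ne_zero hS₀ (fun i hi => (hs i hi).1.1) hne
  · intro k hk
    rcases hS₀.cover k with h | h
    · exact Or.inl (mem_natSpan_indec hcl h1 ⟨h, hk⟩)
    · right
      rw [← root_neg]
      exact mem_natSpan_indec hcl h1 ⟨h, sat_neg hsat hk⟩

/-- S5460 -/
theorem sat_iff {R' : Set ι} :
    Sat P R' ↔ ∃ Δ Δ' : Set ι, IsSimpleSys P Δ ∧ Δ' ⊆ Δ ∧ R' = inSpan P Δ' := by
  constructor
  · intro h
    obtain ⟨Δ', h1, h2, h3⟩ := exists_sub_simple_of_sat h
    obtain ⟨Δ, h4, h5, h6⟩ := extend h h1 h2 h3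
    exact ⟨Δ, Δ', h4, h5, h6⟩
  · rintro ⟨Δ, Δ', hΔ, hsub, rfl⟩
    exact sat_inSpan hΔ hsub

end K219.Par
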